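import Groth.Agent.Desc19b.QDesc.Effective

/-!
# The comparison `f_i^* M ⟶ D_i` is an isomorphism
-/

set_option autoImplicit false
set_option backward.isDefEq.respectTransparency false
set_option backward.isDefEq.respectTransparency.types false
set_option linter.style.haveILetI false
set_option linter.unusedSectionVars false

universe u

open CategoryTheory CategoryTheory.Limits AlgebraicGeometry Opposite TopologicalSpace TensorProduct
open Groth.Agent.Coherent Groth.Agent.PicLib

namespace Groth.Agent.Desc19b.QDesc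

/-- A morphism bijective on a basis is an isomorphism. -/
theorem isIso_of_bijective_basis {X : Scheme.{u}} {M N : X.Modules} (φ : M ⟶ N) (P : X.Opens → Prop)
    (hP : ∀ (V : X.Opens) (y : X), y ∈ V → ∃ B, P B ∧ y ∈ B ∧ B ≤ V)
    (h : ∀ B, P B → Function.Bijective (φ.app B)) : IsIso φ := by
  have hinj : ∀ V : X.Opens, Function.Injective (φ.app V) := fun V a b hab => by
    choose B hB hyB hBV using fun y : V => hP V y.1 y.2
    refine TopCat.Sheaf.eq_of_locally_eq' (⟨M.presheaf, M.isSheaf⟩ : TopCat.Sheaf Ab X) B V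
      (fun y => homOfLE (hBV y)) (fun y hy => Opens.mem_iSup.2 ⟨⟨y, hy⟩, hyB ⟨y, hy⟩⟩) a b fun y => (h _ (hB y)).1 ?_
    show φ.app _ (resM M (hBV y) a) = φ.app _ (resM M (hBV y) b)
    rw [app_resM, app_resM, hab]
  refine Scheme.Modules.Hom.isIso_iff_isIso_app.mpr fun V =>
    (ConcreteCategory.isIso_iff_bijective _).mpr ⟨hinj V, fun z => ?_⟩
  choose B hB hyB hBV using fun y : V => hP V y.1 y.2
  choose w hw using fun y : V => (h (B y) (hB y)).2 (resM N (hBV y) z)
  have hle : V ≤ ⨆ y : V, B y := fun y hy => Opens.mem_iSup.2 ⟨⟨y, hy⟩, hyB ⟨y, hy⟩⟩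
  obtain ⟨ρ, hρ, -⟩ := TopCat.Sheaf.existsUnique_gluing' (⟨M.presheaf, M.isSheaf⟩ : TopCat.Sheaf Ab X)
    B V (fun y => homOfLE (hBV y)) hle w fun a b => by
      refine hinj _ ?_
      show φ.app _ (resM M inf_le_left (w a)) = φ.app _ (resM M inf_le_right (w b))
      rw [app_resM, app_resM, hw, hw, resM_resM, resM_resM]
  refine ⟨ρ, TopCat.Sheaf.eq_of_locally_eq' (⟨N.presheaf, N.isSheaf⟩ : TopCat.Sheaf Ab X) B V
    (fun y => homOfLE (hBV y)) hle _ _ fun y => ?_⟩
  show resM N (hBV y) (φ.app V ρ) = resM N (hBV y) z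
  rw [← app_resM, ← hw y]
  exact congrArg _ (hρ y)

variable {ι : Type u} {S : Scheme.{u}} {Xf : ι → Scheme.{u}} {f : ∀ i, Xf i ⟶ S}
  (D : Desc.modPF.{u}.DescentData f) {W : S.Opens} {κ : Type u} {V : κ → Scheme.{u}}
  {b : ∀ l, V l ⟶ W.toScheme} {a : κ → ι} {v : ∀ l, V l ⟶ Xf (a l)}
  (hv : ∀ l, v l ≫ f (a l) = b l ≫ W.ι)

/-- The comparison, over a member. -/
noncomputable def eta (l : κ) :
    (Scheme.Modules.pullback (b l)).obj ((Scheme.Modules.pullback W.ι).obj (descended D)) ⟶
      (Scheme.Modules.pullback (v l)).obj (ob D (a l)) :=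
  mcI W.ι (b l) (v l ≫ f (a l)) (hv l).symm (descended D) ≫
    mcH (f (a l)) (v l) (v l ≫ f (a l)) rfl (descended D) ≫
      (Scheme.Modules.pullback (v l)).map (counit' D (a l))

theorem eta_pl (l : κ) (m : Γ(descended D, W)) :
    (eta D hv l).app ⊤ (pl (b l) _ (top_le (b l)) (pl W.ι (descended D) W.ι_preimage_self.ge m)) =
      pl (v l) _ (top_le_pre (v l) (b l) (hv l)) (mem' D (a l) W m) := by
  show ((Scheme.Modules.pullback (v l)).map (counit' D (a l))).app ⊤
    ((mcH (f (a l)) (v l) (v l ≫ f (a l)) rfl (descended D)).app ⊤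
      ((mcI W.ι (b l) (v l ≫ f (a l)) (hv l).symm (descended D)).app ⊤
        (pl (b l) _ (top_le (b l)) (pl W.ι (descended D) W.ι_preimage_self.ge m)))) = _
  rw [mcI_app_pl]
  have h₁ : (mcH (f (a l)) (v l) (v l ≫ f (a l)) rfl (descended D)).app ⊤
      (pl (v l ≫ f (a l)) (descended D) (top_le_pre (v l) (b l) (hv l)) m) =
      pl (v l) _ (top_le_pre (v l) (b l) (hv l)) (pl (f (a l)) (descended D) (le_refl (f (a l) ⁻¹ᵁ W)) m) := by
    rw [← mcI_app_pl (f (a l)) (v l) (v l ≫ f (a l)) rfl (descended D) (le_refl (f (a l) ⁻¹ᵁ W))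
      (top_le_pre (v l) (b l) (hv l)) m]
    exact congr(($(mcI_mcH (f (a l)) (v l) (v l ≫ f (a l)) rfl (descended D))).app ⊤
      (pl (v l) _ (top_le_pre (v l) (b l) (hv l)) (pl (f (a l)) _ (le_refl (f (a l) ⁻¹ᵁ W)) m)))
  rw [h₁, app_pl, counit'_app_pl, resM_refl]

/-- `eta` on global sections. -/
noncomputable def etaS (l : κ) :
    Sec (b l) ((Scheme.Modules.pullback (b l)).obj ((Scheme.Modules.pullback W.ι).obj (descended D))) →ₗ[Fn (b l)]
      Obj D b v l where
  toFun x := ⟨(eta D hv l).app ⊤ x.val⟩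
  map_add' x y := Sec.ext (by simp only [Sec.val_add]; exact map_add _ _ _)
  map_smul' s x := Sec.ext (Scheme.Modules.Hom.app_smul (eta D hv l) (show Γ(V l, ⊤) from s) x.val)

theorem etaS_val (l : κ) (x) : (etaS D hv l x).val = (eta D hv l).app ⊤ x.val := rfl

/-- Sections of the descended module, as invariant families. -/
noncomputable def etaInv : Γ((Scheme.Modules.pullback W.ι).obj (descended D), ⊤) →ₗ[Γ(W.toScheme, ⊤)] Inv D hv :=
  LinearMap.codRestrict _ (LinearMap.pi fun l => ((etaS D hv l).restrictScalars Γ(W.toScheme, ⊤)).comp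
    ((bcMap (b l) ((Scheme.Modules.pullback W.ι).obj (descended D))).comp
      (TensorProduct.mk Γ(W.toScheme, ⊤) (Fn (b l)) _ 1))) fun m' => by
    obtain ⟨m, rfl⟩ := (bijective_pl_of_opensRange W.ι (descended D) W.opensRange_ι.symm W.ι_preimage_self.ge).2 m'
    refine Eq.mp (congrArg (· ∈ Inv D hv) (funext fun l => ?_)) (toInvVal D hv m).2
    refine Sec.ext ?_
    rw [toInvVal_apply, ← eta_pl D hv l m]
    exact congrArg (fun x => (etaS D hv l x).val) (one_smul (Fn (b l)) _).symm

theorem etaInv_apply (m' : Γ((Scheme.Modules.pullback W.ι).obj (descended D), ⊤)) (l : κ) :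
    (etaInv D hv m').1 l = etaS D hv l ⟨pl (b l) _ (top_le (b l)) m'⟩ :=
  congrArg (etaS D hv l) (one_smul (Fn (b l)) _)

variable [IsAffine W.toScheme] [Finite κ] [∀ l, IsAffine (V l)] [∀ l, Flat (b l)] [∀ i, Coh.IsQCoh (ob D i)]
  (hb : ∀ z : W.toScheme, ∃ l y, b l y = z) [Coh.IsQCoh (descended D)]

include hb in
theorem bijective_etaInv : Function.Bijective (etaInv D hv) := by
  have hp := bijective_pl_of_opensRange W.ι (descended D) W.opensRange_ι.symm W.ι_preimage_self.ge
  refine (Function.Bijective.of_comp_iff _ hp).1 ?_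
  have e : ⇑(etaInv D hv) ∘ ⇑(pl W.ι (descended D) W.ι_preimage_self.ge) = toInvVal D hv :=
    funext fun m => Subtype.ext (funext fun l => Sec.ext (by
      rw [Function.comp_apply, etaInv_apply, etaS_val, eta_pl, toInvVal_apply]))
  rw [e]
  exact ⟨injective_toInvVal D hv hb, surjective_toInvVal D hv hb⟩

include hb in
theorem bijective_eta (l : κ) : Function.Bijective ((eta D hv l).app ⊤) := by
  haveI : Coh.IsQCoh ((Scheme.Modules.pullback W.ι).obj (descended D)) := EGA43.InjFibre.isQCoh_pullback W.ι _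
  have e : ⇑(mulInv D hv l) ∘ ⇑(LinearMap.lTensor (Fn (b l)) (etaInv D hv)) =
      ⇑(etaS D hv l) ∘ ⇑(bcMap (b l) ((Scheme.Modules.pullback W.ι).obj (descended D))) := funext fun w => by
    induction w using TensorProduct.induction_on with
    | zero => simp only [Function.comp_apply, map_zero]
    | add u v hu hv => simp only [Function.comp_apply, map_add] at hu hv ⊢; rw [hu, hv]
    | tmul s m =>
      simp only [Function.comp_apply, LinearMap.lTensor_tmul, mulInv_tmul, bcMap_tmul, etaInv_apply]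
      exact ((etaS D hv l).map_smul s _).symm
  have hL : Function.Bijective (LinearMap.lTensor (Fn (b l)) (etaInv D hv)) :=
    (LinearEquiv.lTensor (Fn (b l)) (LinearEquiv.ofBijective _ (bijective_etaInv D hv hb))).bijective
  have h1 : Function.Bijective (etaS D hv l) := by
    refine (Function.Bijective.of_comp_iff _ (bijective_bcMap (b l) _)).1 ?_
    rw [← e]
    exact (bijective_mulInv D hv l).comp hL
  have h2 : ((eta D hv l).app ⊤ : _ → _) ∘ Sec.val = Sec.val ∘ etaS D hv l := rfl
  refine (Function.Bijective.of_comp_iff _ (Sec.val_bijective (t := b l)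
    (P := (Scheme.Modules.pullback (b l)).obj ((Scheme.Modules.pullback W.ι).obj (descended D))))).1 ?_
  rw [h2]
  exact Sec.val_bijective.comp h1

omit [IsAffine W.toScheme] [Finite κ] [∀ l, IsAffine (V l)] [∀ l, Flat (b l)] in
/-- The comparison is bijective on small affine opens. -/
theorem bijective_counit'_app (hf : Cov f) (hW : IsAffineOpen W) {i : ι} {Z : (Xf i).Opens}
    (hZ : IsAffineOpen Z) (hle : Z ≤ f i ⁻¹ᵁ W) : Function.Bijective ((counit' D i).app Z) := by
  obtain ⟨R⟩ := hf.refin W hW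
  haveI := R.fin
  let R' : Refin f W :=
    { κ := Option R.κ
      a := fun o => o.elim i R.a
      V := fun o => Option.rec (motive := fun o => (Xf (o.elim i R.a)).Opens) Z R.V o
      hV := fun o => by cases o with | none => exact hZ | some l => exact R.hV l
      e := fun o => by cases o with | none => exact hle | some l => exact R.e l
      surj := fun w hw => by
        obtain ⟨l, x, hx, h⟩ := R.surj w hw
        exact ⟨some l, x, hx, h⟩ }
  haveI : IsAffine W.toScheme := hW
  haveI : Finite R'.κ := inferInstanceAs (Finite (Option R.κ))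
  haveI : ∀ l, IsAffine (R'.V l).toScheme := R'.hV
  haveI : ∀ l, Flat (refb R' l) := fun l => by haveI := hf.flat (R'.a l); infer_instance
  have he := bijective_eta D (refb_over R') (refb_surj R') (none : Option R.κ)
  haveI : IsIso (mcI W.ι (refb R' none) ((R'.V none).ι ≫ f (R'.a none)) (refb_over R' none).symm (descended D) ≫
      mcH (f (R'.a none)) (R'.V none).ι ((R'.V none).ι ≫ f (R'.a none)) rfl (descended D)) := by
    haveI : IsIso (mcI W.ι (refb R' none) ((R'.V none).ι ≫ f (R'.a none)) (refb_over R' none).symm (descended D)) :=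
      ⟨mcH _ _ _ _ _, mcI_mcH _ _ _ _ _, mcH_mcI _ _ _ _ _⟩
    haveI : IsIso (mcH (f (R'.a none)) (R'.V none).ι ((R'.V none).ι ≫ f (R'.a none)) rfl (descended D)) :=
      ⟨mcI _ _ _ _ _, mcH_mcI _ _ _ _ _, mcI_mcH _ _ _ _ _⟩
    infer_instance
  have hI := ConcreteCategory.bijective_of_isIso
    ((mcI W.ι (refb R' none) ((R'.V none).ι ≫ f (R'.a none)) (refb_over R' none).symm (descended D) ≫
      mcH (f (R'.a none)) (R'.V none).ι ((R'.V none).ι ≫ f (R'.a none)) rfl (descended D)).app ⊤)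
  have h1 : Function.Bijective (((Scheme.Modules.pullback Z.ι).map (counit' D i)).app ⊤) :=
    (Function.Bijective.of_comp_iff _ hI).1 he
  have hpA := bijective_pl_of_opensRange Z.ι ((Scheme.Modules.pullback (f i)).obj (descended D)) Z.opensRange_ι.symm
    Z.ι_preimage_self.ge
  have hpB := bijective_pl_of_opensRange Z.ι (ob D i) Z.opensRange_ι.symm Z.ι_preimage_self.ge
  refine (Function.Bijective.of_comp_iff' hpB _).1 ?_
  have h3 : ⇑(pl Z.ι (ob D i) Z.ι_preimage_self.ge) ∘ ((counit' D i).app Z : _ → _) =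
      (((Scheme.Modules.pullback Z.ι).map (counit' D i)).app ⊤ : _ → _) ∘
        ⇑(pl Z.ι ((Scheme.Modules.pullback (f i)).obj (descended D)) Z.ι_preimage_self.ge) :=
    funext fun z => (app_pl Z.ι (counit' D i) Z.ι_preimage_self.ge z).symm
  rw [h3]
  exact h1.comp hpA

omit [IsAffine W.toScheme] [Finite κ] [∀ l, IsAffine (V l)] [∀ l, Flat (b l)] [Coh.IsQCoh (descended D)] in
theorem isIso_counit' (hf : Cov f) (i : ι) : IsIso (counit' D i) := by
  haveI := isQCoh_descended D hf
  refine isIso_of_bijective_basis _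
    (fun Z => ∃ W : S.Opens, IsAffineOpen W ∧ IsAffineOpen Z ∧ Z ≤ f i ⁻¹ᵁ W) (fun V y hy => ?_)
    fun Z ⟨W, hW, hZ, hle⟩ => bijective_counit'_app D hf hW hZ hle
  obtain ⟨W, hW, hyW, -⟩ := Opens.isBasis_iff_nbhd.1 S.isBasis_affineOpens (Opens.mem_top (f i y))
  obtain ⟨Z, hZ, hyZ, hle⟩ := Opens.isBasis_iff_nbhd.1 (Xf i).isBasis_affineOpens
    (show y ∈ V ⊓ f i ⁻¹ᵁ W from ⟨hy, hyW⟩)
  exact ⟨Z, ⟨W, hW, hZ, hle.trans inf_le_right⟩, hyZ, hle.trans inf_le_left⟩

omit [IsAffine W.toScheme] [Finite κ] [∀ l, IsAffine (V l)] [∀ l, Flat (b l)] [Coh.IsQCoh (descended D)] in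
/-- Effectivity. -/
theorem nonempty_toDescentData_iso (hf : Cov f) :
    Nonempty ((Desc.modPF.{u}.toDescentData f).obj (descended D) ≅ D) := by
  haveI := isIso_counit' D hf
  exact ⟨Pseudofunctor.DescentData.isoMk (fun i => asIso (counit' D i))
    fun Y q i j x y hx hy => counit'_comm D q x y hx hy⟩

end Groth.Agent.Desc19b.QDesc
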