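import Groth.Agent.Desc19b.QDesc.Points

/-!
# The canonical descent datum of a module, on sections over points
-/

set_option autoImplicit false
set_option backward.isDefEq.respectTransparency false
set_option backward.isDefEq.respectTransparency.types false

universe u

open CategoryTheory CategoryTheory.Limits AlgebraicGeometry Opposite TopologicalSpace
open Groth.Agent.Coherent Groth.Agent.PicLib

namespace Groth.Agent.Desc19b.QDesc

/-- Moving an isomorphism across an equation of sections. -/
theorem app_comp_eq_iff {X : Scheme.{u}} {A B C : X.Modules} (a : A ⟶ C) (c : C ⟶ B) (d : B ⟶ C)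
    (h₁ : c ≫ d = 𝟙 C) (h₂ : d ≫ c = 𝟙 B) {U : X.Opens} (s : Γ(A, U)) (t : Γ(B, U)) :
    (a ≫ c).app U s = t ↔ a.app U s = d.app U t := by
  refine ⟨fun h => ?_, fun h => ?_⟩
  · subst h
    exact (congr(($h₁).app U (a.app U s))).symm
  · show c.app U (a.app U s) = t
    rw [h]
    exact congr(($h₂).app U t)

variable {ι : Type u} {S : Scheme.{u}} {Xf : ι → Scheme.{u}} (f : ∀ i, Xf i ⟶ S) (M : S.Modules)

/-- The canonical descent datum. -/
noncomputable abbrev can : Desc.modPF.{u}.DescentData f := (Desc.modPF.{u}.toDescentData f).obj M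

variable {T : Scheme.{u}} {i j : ι} (x : T ⟶ Xf i) (y : T ⟶ Xf j) (q : T ⟶ S) (hx : x ≫ f i = q)
  (hy : y ≫ f j = q)

theorem dhom_can : dhom (can f M) x y (hx.trans hy.symm) = mcI (f i) x q hx M ≫ mcH (f j) y q hy M := by
  rw [dhom_eq (can f M) q x y hx hy]
  rfl

/-- The gluing of the canonical datum relates sections with the same pullback to `q`. -/
theorem act_can_pl_iff (t : Γ((Scheme.Modules.pullback (f i)).obj M, ⊤))
    (t' : Γ((Scheme.Modules.pullback (f j)).obj M, ⊤)) :
    act (can f M) x y (hx.trans hy.symm) (pl x _ (top_le x) t) = pl y _ (top_le y) t' ↔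
      tr₀ (f i) x q hx M t = tr₀ (f j) y q hy M t' := by
  rw [act_eq, dhom_can f M x y q hx hy, tr₀_eq, tr₀_eq]
  exact app_comp_eq_iff (mcI (f i) x q hx M) (mcH (f j) y q hy M) (mcI (f j) y q hy M)
    (mcH_mcI (f j) y q hy M) (mcI_mcH (f j) y q hy M) (pl x _ (top_le x) t) (pl y _ (top_le y) t')

end Groth.Agent.Desc19b.QDesc
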