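import Groth.Agent.Desc19b.QDesc.GlueOpen
import Groth.Agent.Desc19b.QDesc.Canon

/-!
# Morphisms of quasi-coherent modules descend along fpqc coverings
-/

set_option autoImplicit false
set_option backward.isDefEq.respectTransparency false
set_option backward.isDefEq.respectTransparency.types false
set_option linter.style.haveILetI false
set_option linter.unusedSectionVars false

universe u

open CategoryTheory CategoryTheory.Limits AlgebraicGeometry Opposite TopologicalSpace
open Groth.Agent.Coherent Groth.Agent.PicLib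

namespace Groth.Agent.Desc19b.QDesc

variable {ι : Type u} {S : Scheme.{u}} {X : ι → Scheme.{u}} {f : ∀ i, X i ⟶ S} {M N : S.Modules}

/-- A morphism of canonical data is compatible on double overlaps. -/
theorem compat_of_comm {Z : Scheme.{u}} {i j : ι} (α : ∀ i, (Scheme.Modules.pullback (f i)).obj M ⟶ (Scheme.Modules.pullback (f i)).obj N)
    (z : Z ⟶ X i) (z' : Z ⟶ X j) (k : Z ⟶ S) (hz : z ≫ f i = k) (hz' : z' ≫ f j = k)
    (hc : (Scheme.Modules.pullback z).map (α i) ≫ mcI (f i) z k hz N ≫ mcH (f j) z' k hz' N =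
      (mcI (f i) z k hz M ≫ mcH (f j) z' k hz' M) ≫ (Scheme.Modules.pullback z').map (α j))
    {U : S.Opens} {V : Z.Opens} (e : V ≤ z ⁻¹ᵁ (f i ⁻¹ᵁ U)) (e' : V ≤ z' ⁻¹ᵁ (f j ⁻¹ᵁ U)) (m : Γ(M, U)) :
    tr (f i) z k hz N e ((α i).app _ (pl (f i) M (le_refl (f i ⁻¹ᵁ U)) m)) =
      tr (f j) z' k hz' N e' ((α j).app _ (pl (f j) M (le_refl (f j ⁻¹ᵁ U)) m)) := by
  have hc' : (Scheme.Modules.pullback z).map (α i) ≫ mcI (f i) z k hz N =
      mcI (f i) z k hz M ≫ mcH (f j) z' k hz' M ≫ (Scheme.Modules.pullback z').map (α j) ≫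
        mcI (f j) z' k hz' N := by
    simpa only [Category.assoc, mcH_mcI, Category.comp_id] using congrArg (· ≫ mcI (f j) z' k hz' N) hc
  rw [tr_apply, tr_apply, ← app_pl z (α i) e, ← app_pl z' (α j) e']
  refine (congr(($hc').app V (pl z _ e (pl (f i) M (le_refl (f i ⁻¹ᵁ U)) m)))).trans ?_
  show (mcI (f j) z' k hz' N).app V (((Scheme.Modules.pullback z').map (α j)).app V
    ((mcH (f j) z' k hz' M).app V ((mcI (f i) z k hz M).app V (pl z _ e (pl (f i) M (le_refl (f i ⁻¹ᵁ U)) m))))) = _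
  refine congrArg (fun x => (mcI (f j) z' k hz' N).app V (((Scheme.Modules.pullback z').map (α j)).app V x)) ?_
  rw [mcI_app_pl (f i) z k hz M _ e m, ← mcI_app_pl (f j) z' k hz' M (le_refl (f j ⁻¹ᵁ U)) e' m]
  exact congr(($(mcI_mcH (f j) z' k hz' M)).app V (pl z' _ e' (pl (f j) M (le_refl (f j ⁻¹ᵁ U)) m)))

variable [Coh.IsQCoh N]

theorem map_injective (hf : Cov f) {a b : M ⟶ N}
    (h : ∀ i, (Scheme.Modules.pullback (f i)).map a = (Scheme.Modules.pullback (f i)).map b) : a = b := by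
  ext U m
  have ha : ∀ (c : M ⟶ N) (i : ι), pl (f i) N (le_refl (f i ⁻¹ᵁ U)) (c.app U m) =
      ((Scheme.Modules.pullback (f i)).map c).app _ (pl (f i) M (le_refl (f i ⁻¹ᵁ U)) m) :=
    fun c i => (app_pl (f i) c _ m).symm
  refine (existsUnique_glue_open N hf U (fun i => pl (f i) N (le_refl (f i ⁻¹ᵁ U)) (b.app U m))
    fun i j => (tr_pl _ _ _ _ _ _ _ _).trans (tr_pl _ _ _ _ _ _ _ _).symm).unique (fun i => ?_) (fun _ => rfl)
  rw [ha a i, ha b i, h i]

theorem exists_hom_of_family (hf : Cov f)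
    (α : ∀ i, (Scheme.Modules.pullback (f i)).obj M ⟶ (Scheme.Modules.pullback (f i)).obj N)
    (hc : ∀ i j, (Scheme.Modules.pullback (pullback.fst (f i) (f j))).map (α i) ≫
        mcI (f i) (pullback.fst (f i) (f j)) (pullback.fst (f i) (f j) ≫ f i) rfl N ≫
          mcH (f j) (pullback.snd (f i) (f j)) (pullback.fst (f i) (f j) ≫ f i) pullback.condition.symm N =
      (mcI (f i) (pullback.fst (f i) (f j)) (pullback.fst (f i) (f j) ≫ f i) rfl M ≫
          mcH (f j) (pullback.snd (f i) (f j)) (pullback.fst (f i) (f j) ≫ f i) pullback.condition.symm M) ≫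
        (Scheme.Modules.pullback (pullback.snd (f i) (f j))).map (α j)) :
    ∃ φ : M ⟶ N, ∀ i, (Scheme.Modules.pullback (f i)).map φ = α i := by
  have hex : ∀ (U : S.Opens) (m : Γ(M, U)), ∃! n : Γ(N, U), ∀ i,
      pl (f i) N (le_refl (f i ⁻¹ᵁ U)) n = (α i).app _ (pl (f i) M (le_refl (f i ⁻¹ᵁ U)) m) := fun U m =>
    existsUnique_glue_open N hf U _ fun i j => compat_of_comm α _ _ _ rfl pullback.condition.symm (hc i j) _ _ m
  choose F hF hFu using hex
  have hadd : ∀ (U : S.Opens) (m m' : Γ(M, U)), F U (m + m') = F U m + F U m' := fun U m m' =>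
    (hFu U _ _ fun i => by rw [map_add, hF, hF, map_add, map_add]).symm
  let φ : M ⟶ N := ⟨PresheafOfModules.homMk
    { app := fun U => AddCommGrpCat.ofHom (AddMonoidHom.mk' (F U.unop) (hadd U.unop))
      naturality := fun U V h => by
        ext (m : Γ(M, U.unop))
        show F V.unop (resM M h.unop.le m) = resM N h.unop.le (F U.unop m)
        refine (hFu V.unop _ _ fun i => ?_).symm
        have e : f i ⁻¹ᵁ V.unop ≤ f i ⁻¹ᵁ U.unop := ((Opens.map (f i).base).map h.unop).le
        rw [pl_resM, ← resM_pl (f i) N (le_refl _) e, hF, ← app_resM, resM_pl, pl_resM] }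
    (fun U r (m : Γ(M, U.unop)) => by
      show F U.unop ((show Γ(S, U.unop) from r) • m) = (show Γ(S, U.unop) from r) • F U.unop m
      refine (hFu U.unop _ _ fun i => ?_).symm
      rw [pl_smul, pl_smul, hF, Scheme.Modules.Hom.app_smul])⟩
  refine ⟨φ, fun i => pullback_hom_ext (f i) fun U m => ?_⟩
  rw [← pl_self (f i) M U m, app_pl]
  exact hF U m i

theorem toDescentData_map_bijective (hf : Cov f) :
    Function.Bijective ((Desc.modPF.{u}.toDescentData f).map : (M ⟶ N) → _) := by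
  refine ⟨fun a b h => map_injective hf fun i => congr(($h).hom i), fun ψ => ?_⟩
  obtain ⟨φ, hφ⟩ := exists_hom_of_family hf (fun i => ψ.hom i) fun i j =>
    ψ.comm (pullback.fst (f i) (f j) ≫ f i) (pullback.fst (f i) (f j)) (pullback.snd (f i) (f j)) rfl
      pullback.condition.symm
  exact ⟨φ, Pseudofunctor.DescentData.hom_ext fun i => hφ i⟩

end Groth.Agent.Desc19b.QDesc
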