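import Groth.Agent.Desc19b.QDesc.Core
import Groth.Agent.Desc19b.QDesc.Canon
import Groth.Agent.Desc19b.FamilyDescent

/-!
# Flat descent of sections of a quasi-coherent module along a finite affine family
-/

set_option autoImplicit false
set_option backward.isDefEq.respectTransparency false
set_option backward.isDefEq.respectTransparency.types false
set_option linter.style.haveILetI false
set_option linter.unusedSectionVars false

universe u

open CategoryTheory CategoryTheory.Limits AlgebraicGeometry Opposite TopologicalSpace TensorProduct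
open Groth.Agent.Coherent Groth.Agent.PicLib

namespace Groth.Agent.Desc19b.QDesc

theorem tr₀_pl {X Y Z : Scheme.{u}} (g : Y ⟶ X) (h : Z ⟶ Y) (k : Z ⟶ X) (hk : h ≫ g = k) (M : X.Modules)
    (m : Γ(M, ⊤)) : tr₀ g h k hk M (pl g M (top_le g) m) = pl k M (top_le k) m := by
  rw [tr₀_def]
  exact tr_pl g h k hk M _ _ m

theorem id_appLE_top {X : Scheme.{u}} (e : (⊤ : X.Opens) ≤ (𝟙 X) ⁻¹ᵁ ⊤) (r : Γ(X, ⊤)) :
    (𝟙 X : X ⟶ X).appLE ⊤ ⊤ e r = r := by
  rw [show (𝟙 X : X ⟶ X).appLE ⊤ ⊤ e = (𝟙 X : X ⟶ X).app ⊤ from (Scheme.Hom.app_eq_appLE _).symm]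
  rfl

section bcMap

variable {W B : Scheme.{u}} (b : B ⟶ W) (P : W.Modules)

/-- `s ⊗ m ↦ s • b^* m`. -/
noncomputable def bcMap :
    Fn b ⊗[Γ(W, ⊤)] Γ(P, ⊤) →ₗ[Γ(W, ⊤)] Sec b ((Scheme.Modules.pullback b).obj P) :=
  TensorProduct.lift <| LinearMap.mk₂ _
    (fun s m => s • ⟨pl b P (top_le b) m⟩)
    (fun s s' m => add_smul s s' _)
    (fun r s m => smul_assoc r s _)
    (fun s m m' => by
      rw [← smul_add]
      exact congrArg (s • ·) (Sec.ext (map_add _ m m')))
    (fun r s m => by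
      rw [smul_comm r s]
      refine congrArg (s • ·) (Sec.ext ?_)
      rw [Sec.val_smul, pl_smul, show b.appTop = b.appLE ⊤ ⊤ (top_le b) from Scheme.Hom.app_eq_appLE _])

theorem bcMap_tmul (s : Fn b) (m : Γ(P, ⊤)) : bcMap b P (s ⊗ₜ m) = s • ⟨pl b P (top_le b) m⟩ := rfl

theorem bijective_bcMap [IsAffine W] [IsAffine B] [Coh.IsQCoh P] : Function.Bijective (bcMap b P) := by
  have e : (⊤ : B.Opens) ≤ b ⁻¹ᵁ ⊤ := top_le b
  letI : Algebra Γ(W, ⊤) Γ(B, ⊤) := (b.appLE ⊤ ⊤ e).hom.toAlgebra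
  letI : Module Γ(W, ⊤) Γ((Scheme.Modules.pullback b).obj P, ⊤) := Module.compHom _ (b.appLE ⊤ ⊤ e).hom
  haveI : IsScalarTower Γ(W, ⊤) Γ(B, ⊤) Γ((Scheme.Modules.pullback b).obj P, ⊤) :=
    .of_algebraMap_smul fun _ _ => rfl
  obtain ⟨ν, hν, hνe⟩ :=
    EGA43.InjFibre.pullMap_isBaseChange b (isAffineOpen_top W) (isAffineOpen_top B) e (M := P)
  have e₂ : b.appLE ⊤ ⊤ e = b.appTop := (Scheme.Hom.app_eq_appLE _).symm
  let c : Fn b ⊗[Γ(W, ⊤)] Γ(P, ⊤) ≃ₗ[Γ(W, ⊤)] Γ(B, ⊤) ⊗[Γ(W, ⊤)] Γ(P, ⊤) :=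
    TensorProduct.congr
      { toFun := fun s => (show Γ(B, ⊤) from s)
        invFun := fun s => s
        left_inv := fun _ => rfl
        right_inv := fun _ => rfl
        map_add' := fun _ _ => rfl
        map_smul' := fun r (s : Γ(B, ⊤)) => by
          show b.appTop r * s = b.appLE ⊤ ⊤ e r * s
          rw [e₂] }
      (LinearEquiv.refl _ _)
  have hcomp : Sec.val ∘ ⇑(bcMap b P) = ⇑hν.equiv ∘ ⇑c := funext fun w => by
    induction w using TensorProduct.induction_on with
    | zero => simp only [Function.comp_apply, map_zero, Sec.val_zero]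
    | add u v hu hv =>
      simp only [Function.comp_apply] at hu hv ⊢
      simp only [map_add, Sec.val_add, hu, hv]
    | tmul s m =>
      show (bcMap b P (s ⊗ₜ m)).val = hν.equiv ((show Γ(B, ⊤) from s) ⊗ₜ m)
      rw [bcMap_tmul, IsBaseChange.equiv_tmul, Sec.val_fn_smul, hνe, pullMap_eq_resM_pullSec]
      rfl
  refine (Function.Bijective.of_comp_iff' Sec.val_bijective _).1 ?_
  rw [hcomp]
  exact hν.equiv.bijective.comp c.bijective

end bcMap

theorem exists_comap_appTop {W B : Scheme.{u}} (b : B ⟶ W) [IsAffine W] [IsAffine B] (x : B) :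
    ∃ q : PrimeSpectrum Γ(B, ⊤), PrimeSpectrum.comap b.appTop.hom q =
      (isAffineOpen_top W).primeIdealOf ⟨b x, trivial⟩ := by
  refine ⟨(isAffineOpen_top B).primeIdealOf ⟨x, trivial⟩, ?_⟩
  rw [show b.appTop = b.appLE ⊤ ⊤ (top_le b) from Scheme.Hom.app_eq_appLE _]
  exact EGA43.InjFibre.comap_primeIdealOf b (isAffineOpen_top W) (isAffineOpen_top B) (top_le b)
    (show x ∈ (⊤ : B.Opens) from trivial)

variable {W : Scheme.{u}} {κ : Type u} {V : κ → Scheme.{u}} (b : ∀ l, V l ⟶ W) (P : W.Modules)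

theorem idPt_hv (l : κ) : 𝟙 (V l) ≫ b l = b l ≫ 𝟙 W := by simp

/-- Sections of `b_l^* P`, as values of the canonical datum at the identity point. -/
noncomputable def idPt (l : κ) : Sec (b l) ((Scheme.Modules.pullback (b l)).obj P) →ₗ[Γ(W, ⊤)]
    Obj (can b P) (a := id) b (fun l => 𝟙 (V l)) l where
  toFun x := ⟨pl (𝟙 (V l)) (ob (can b P) l) (top_le _) x.val⟩
  map_add' x y := Sec.ext (by simp only [Sec.val_add]; exact map_add _ _ _)
  map_smul' r x := Sec.ext (by
    simp only [Sec.val_smul, RingHom.id_apply]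
    refine (pl_smul (𝟙 (V l)) (ob (can b P) l) (top_le _) _ _).trans ?_
    exact congrArg (fun c : Γ(V l, ⊤) => c • _) (id_appLE_top _ _))

theorem idPt_val (l : κ) (x : Sec (b l) ((Scheme.Modules.pullback (b l)).obj P)) :
    (idPt b P l x).val = pl (𝟙 (V l)) (ob (can b P) l) (top_le _) x.val := rfl

theorem idPt_fn_smul (l : κ) (s : Fn (b l)) (x : Sec (b l) ((Scheme.Modules.pullback (b l)).obj P)) :
    idPt b P l (s • x) = s • idPt b P l x := by
  refine Sec.ext ?_
  rw [idPt_val, Sec.val_fn_smul, Sec.val_fn_smul, idPt_val]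
  refine (pl_smul (𝟙 (V l)) (ob (can b P) l) (top_le _) _ _).trans ?_
  exact congrArg (fun c : Γ(V l, ⊤) => c • _) (id_appLE_top _ _)

theorem bijective_idPt (l : κ) : Function.Bijective (idPt b P l) := by
  refine (Function.Bijective.of_comp_iff' Sec.val_bijective _).1 ?_
  exact (pl_id_bijective (ob (can b P) l) ⊤).comp Sec.val_bijective

/-- Families agreeing on the overlaps are invariant. -/
theorem idPt_mem_Inv (t : ∀ l, Γ((Scheme.Modules.pullback (b l)).obj P, ⊤))
    (ht : ∀ l m, tr₀ (b l) (pullback.fst (b l) (b m)) (pullback.fst (b l) (b m) ≫ b l) rfl P (t l) =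
      tr₀ (b m) (pullback.snd (b l) (b m)) (pullback.fst (b l) (b m) ≫ b l) pullback.condition.symm P (t m)) :
    (fun l => idPt b P l ⟨t l⟩) ∈ Inv (can b P) (w := 𝟙 W) (idPt_hv b) := by
  rw [mem_Inv]
  rintro ⟨l, m⟩
  simp only [idPt_val]
  rw [tr₀_pl, tr₀_pl]
  refine (act_can_pl_iff b P _ _ (pullback.fst (b l) (b m) ≫ b l) (by simp) (by simp [pullback.condition]) _ _).2 ?_
  refine ((tr₀_congr (b l) (Category.comp_id _) _ _ P (t l)).trans (ht l m)).trans ?_
  exact (tr₀_congr (b m) (Category.comp_id _) _ _ P (t m)).symm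

/-- The sections of the module, as invariant families. -/
noncomputable def toInv : Γ(P, ⊤) →ₗ[Γ(W, ⊤)] Inv (can b P) (w := 𝟙 W) (idPt_hv b) :=
  LinearMap.codRestrict _ (LinearMap.pi fun l => (idPt b P l).comp
    ((bcMap (b l) P).comp (TensorProduct.mk Γ(W, ⊤) (Fn (b l)) Γ(P, ⊤) 1))) fun m => by
      have h := idPt_mem_Inv b P (fun l => pl (b l) P (top_le _) m) (fun l k => by rw [tr₀_pl, tr₀_pl])
      refine Eq.mp (congrArg (· ∈ Inv (can b P) (w := 𝟙 W) (idPt_hv b)) (funext fun l => ?_)) h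
      exact (congrArg (idPt b P l) (one_smul (Fn (b l)) _)).symm

theorem toInv_apply (m : Γ(P, ⊤)) (l : κ) :
    (toInv b P m).1 l = idPt b P l ⟨pl (b l) P (top_le _) m⟩ :=
  congrArg (idPt b P l) (one_smul (Fn (b l)) _)

variable [IsAffine W] [∀ l, IsAffine (V l)] [Finite κ] [∀ l, Flat (b l)] [Coh.IsQCoh P]

theorem bijective_lTensor_toInv (l : κ) :
    Function.Bijective (LinearMap.lTensor (Fn (b l)) (toInv b P)) := by
  haveI : ∀ i, Coh.IsQCoh (ob (can b P) i) := fun i => EGA43.InjFibre.isQCoh_pullback (b i) P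
  have e : ⇑(mulInv (can b P) (idPt_hv b) l) ∘ ⇑(LinearMap.lTensor (Fn (b l)) (toInv b P)) =
      ⇑(idPt b P l) ∘ ⇑(bcMap (b l) P) := funext fun w => by
    induction w using TensorProduct.induction_on with
    | zero => simp only [Function.comp_apply, map_zero]
    | add u v hu hv => simp only [Function.comp_apply, map_add] at hu hv ⊢; rw [hu, hv]
    | tmul s m =>
      simp only [Function.comp_apply, LinearMap.lTensor_tmul, mulInv_tmul, bcMap_tmul, toInv_apply, idPt_fn_smul]
  refine (Function.Bijective.of_comp_iff' (bijective_mulInv (can b P) (idPt_hv b) l) _).1 ?_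
  rw [e]
  exact (bijective_idPt b P l).comp (bijective_bcMap (b l) P)

theorem bijective_toInv (hb : ∀ w : W, ∃ l x, b l x = w) : Function.Bijective (toInv b P) := by
  haveI : ∀ l, Module.Flat Γ(W, ⊤) (Fn (b l)) := fun l => (b l).flat_appTop
  have hcov : ∀ p : PrimeSpectrum Γ(W, ⊤), ∃ (k : κ) (q : PrimeSpectrum (Fn (b k))),
      PrimeSpectrum.comap (algebraMap Γ(W, ⊤) (Fn (b k))) q = p := fun p => by
    obtain ⟨⟨w, hw⟩, rfl⟩ : ∃ y : (⊤ : W.Opens), (isAffineOpen_top W).primeIdealOf y = p :=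
      (isAffineOpen_top W).isoSpec.hom.homeomorph.surjective p
    obtain ⟨l, x, rfl⟩ := hb w
    obtain ⟨q, hq⟩ := exists_comap_appTop (b l) x
    exact ⟨l, q, hq⟩
  refine ⟨(injective_iff_map_eq_zero _).2 fun m hm => ?_, fun n => ?_⟩
  · have h := subsingleton_of_family (fun l => Fn (b l)) hcov (LinearMap.ker (toInv b P)) (fun l x => by
      refine (Module.Flat.lTensor_preserves_injective_linearMap (M := Fn (b l)) _
        (Submodule.subtype_injective _)) ((bijective_lTensor_toInv b P l).1 ?_)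
      rw [← LinearMap.comp_apply, ← LinearMap.lTensor_comp,
        show (toInv b P).comp (LinearMap.ker (toInv b P)).subtype = 0 from LinearMap.ext fun y => y.2,
        LinearMap.lTensor_zero, LinearMap.zero_apply, map_zero, map_zero]) ⟨m, hm⟩
    exact congrArg Subtype.val h
  · have h := subsingleton_of_family (fun l => Fn (b l)) hcov _ (fun l x => by
      obtain ⟨y, rfl⟩ := LinearMap.lTensor_surjective (Fn (b l)) (LinearMap.range (toInv b P)).mkQ_surjective x
      obtain ⟨z, rfl⟩ := (bijective_lTensor_toInv b P l).2 y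
      rw [← LinearMap.comp_apply, ← LinearMap.lTensor_comp, LinearMap.range_mkQ_comp, LinearMap.lTensor_zero,
        LinearMap.zero_apply]) (Submodule.Quotient.mk n)
    exact (Submodule.Quotient.mk_eq_zero _).1 h

/-- Sections agreeing on the overlaps of a finite flat affine covering glue uniquely. -/
theorem existsUnique_glue_affine (hb : ∀ w : W, ∃ l x, b l x = w)
    (t : ∀ l, Γ((Scheme.Modules.pullback (b l)).obj P, ⊤))
    (ht : ∀ l m, tr₀ (b l) (pullback.fst (b l) (b m)) (pullback.fst (b l) (b m) ≫ b l) rfl P (t l) =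
      tr₀ (b m) (pullback.snd (b l) (b m)) (pullback.fst (b l) (b m) ≫ b l) pullback.condition.symm P (t m)) :
    ∃! m : Γ(P, ⊤), ∀ l, pl (b l) P (top_le (b l)) m = t l := by
  obtain ⟨m, hm⟩ := (bijective_toInv b P hb).2 ⟨_, idPt_mem_Inv b P t ht⟩
  have key : ∀ l, pl (b l) P (top_le (b l)) m = t l := fun l => by
    have := congrArg (fun n : Inv (can b P) (w := 𝟙 W) (idPt_hv b) => n.1 l) hm
    simp only [toInv_apply] at this
    exact congrArg Sec.val ((bijective_idPt b P l).1 this)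
  refine ⟨m, key, fun m' hm' => (bijective_toInv b P hb).1 (Subtype.ext (funext fun l => ?_))⟩
  rw [toInv_apply, toInv_apply, hm' l, key l]

end Groth.Agent.Desc19b.QDesc
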