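import Groth.Agent.Desc19b.QDesc.Points
import Groth.Agent.EGA43.Cons.FibFlatLocus
import Mathlib.AlgebraicGeometry.Morphisms.Affine
import Mathlib.AlgebraicGeometry.Morphisms.Flat
import Mathlib.LinearAlgebra.TensorProduct.Pi
import Mathlib.RingTheory.Flat.Basic

/-!
# Base change of sections of pullbacks along a fibre product of affine schemes

`Sec t P` is a wrapper for `Γ(P, ⊤)` as a module over the functions of the base; it is a structure so
that the kernel never evaluates the presheaf of a pullback when comparing group structures.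
-/

set_option autoImplicit false
set_option backward.isDefEq.respectTransparency false
set_option backward.isDefEq.respectTransparency.types false
set_option linter.style.haveILetI false

universe u

open CategoryTheory CategoryTheory.Limits AlgebraicGeometry Opposite TopologicalSpace TensorProduct
open Groth.Agent.Coherent Groth.Agent.PicLib

namespace Groth.Agent.Desc19b.QDesc

variable {W T T' : Scheme.{u}}

/-- Global functions, as an algebra over those of the base. -/
def Fn (_t : T ⟶ W) : Type u := Γ(T, ⊤)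

noncomputable instance (t : T ⟶ W) : CommRing (Fn t) := inferInstanceAs (CommRing Γ(T, ⊤))

noncomputable instance (t : T ⟶ W) : Algebra Γ(W, ⊤) (Fn t) := RingHom.toAlgebra t.appTop.hom

/-- Global sections of a module, as a module over the global functions of the base. -/
@[ext]
structure Sec (t : T ⟶ W) (P : T.Modules) : Type u where
  /-- The section. -/
  val : Γ(P, ⊤)

namespace Sec

variable {t : T ⟶ W} {P : T.Modules}

noncomputable instance : AddCommGroup (Sec t P) where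
  add x y := ⟨x.val + y.val⟩
  zero := ⟨0⟩
  neg x := ⟨-x.val⟩
  sub x y := ⟨x.val - y.val⟩
  nsmul n x := ⟨n • x.val⟩
  zsmul n x := ⟨n • x.val⟩
  add_assoc x y z := Sec.ext (add_assoc x.val y.val z.val)
  zero_add x := Sec.ext (zero_add x.val)
  add_zero x := Sec.ext (add_zero x.val)
  add_comm x y := Sec.ext (add_comm x.val y.val)
  neg_add_cancel x := Sec.ext (neg_add_cancel x.val)
  sub_eq_add_neg x y := Sec.ext (sub_eq_add_neg x.val y.val)
  nsmul_zero x := Sec.ext (zero_nsmul x.val)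
  nsmul_succ n x := Sec.ext (succ_nsmul x.val n)
  zsmul_zero' x := Sec.ext (zero_zsmul x.val)
  zsmul_succ' n x := Sec.ext (SubNegMonoid.zsmul_succ' n x.val)
  zsmul_neg' n x := Sec.ext (SubNegMonoid.zsmul_neg' n x.val)

theorem val_add (x y : Sec t P) : (x + y).val = x.val + y.val := rfl

theorem val_sub (x y : Sec t P) : (x - y).val = x.val - y.val := rfl

theorem val_zero : (0 : Sec t P).val = 0 := rfl

/-- The underlying section, as a homomorphism. -/
def valHom : Sec t P →+ Γ(P, ⊤) where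
  toFun := Sec.val
  map_zero' := rfl
  map_add' _ _ := rfl

noncomputable instance : Module (Fn t) (Sec t P) where
  smul s x := ⟨(show Γ(T, ⊤) from s) • x.val⟩
  one_smul x := Sec.ext (one_smul Γ(T, ⊤) x.val)
  mul_smul r s x := Sec.ext (mul_smul (show Γ(T, ⊤) from r) (show Γ(T, ⊤) from s) x.val)
  smul_zero r := Sec.ext (smul_zero (show Γ(T, ⊤) from r))
  smul_add r x y := Sec.ext (smul_add (show Γ(T, ⊤) from r) x.val y.val)
  add_smul r s x := Sec.ext (add_smul (show Γ(T, ⊤) from r) (show Γ(T, ⊤) from s) x.val)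
  zero_smul x := Sec.ext (zero_smul Γ(T, ⊤) x.val)

noncomputable instance : Module Γ(W, ⊤) (Sec t P) := Module.compHom _ (algebraMap Γ(W, ⊤) (Fn t))

instance : IsScalarTower Γ(W, ⊤) (Fn t) (Sec t P) := IsScalarTower.of_algebraMap_smul fun _ _ => rfl

theorem val_smul (r : Γ(W, ⊤)) (x : Sec t P) : (r • x).val = t.appTop r • x.val := rfl

theorem val_fn_smul (s : Fn t) (x : Sec t P) : (s • x).val = (show Γ(T, ⊤) from s) • x.val := rfl

theorem val_bijective : Function.Bijective (Sec.val : Sec t P → Γ(P, ⊤)) :=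
  ⟨fun _ _ h => Sec.ext h, fun y => ⟨⟨y⟩, rfl⟩⟩

end Sec

/-- `tr₀`, with source seen as a module over the functions of a base. -/
noncomputable def trS {Xi : Scheme.{u}} {t : T ⟶ W} (g : T ⟶ Xi) (h : T' ⟶ T) (k : T' ⟶ Xi) (hk : h ≫ g = k)
    (M : Xi.Modules) :
    Sec t ((Scheme.Modules.pullback g).obj M) →+ Γ((Scheme.Modules.pullback k).obj M, ⊤) :=
  (tr₀ g h k hk M).comp Sec.valHom

theorem trS_apply {Xi : Scheme.{u}} {t : T ⟶ W} (g : T ⟶ Xi) (h : T' ⟶ T) (k : T' ⟶ Xi) (hk : h ≫ g = k)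
    (M : Xi.Modules) (x : Sec t ((Scheme.Modules.pullback g).obj M)) :
    trS g h k hk M x = tr₀ g h k hk M x.val := rfl

section bc

variable {A B Xi : Scheme.{u}} (bA : A ⟶ W) (bB : B ⟶ W)
  (x : B ⟶ Xi) (M : Xi.Modules) {tP : pullback bA bB ⟶ W} (htP : pullback.fst bA bB ≫ bA = tP)
  (z : pullback bA bB ⟶ Xi) (hz : pullback.snd bA bB ≫ x = z)

theorem snd_appTop (r : Γ(W, ⊤)) (htP : pullback.fst bA bB ≫ bA = tP) :
    (pullback.snd bA bB).appTop (bB.appTop r) = tP.appTop r := by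
  subst htP
  rw [pullback.condition, Scheme.Hom.comp_appTop]
  rfl

theorem fst_appTop (r : Γ(W, ⊤)) (htP : pullback.fst bA bB ≫ bA = tP) :
    (pullback.fst bA bB).appTop (bA.appTop r) = tP.appTop r := by
  subst htP
  rfl

/-- `s ⊗ n ↦ s • n` on an affine fibre product. -/
noncomputable def bcMul : Fn bA ⊗[Γ(W, ⊤)] Sec bB ((Scheme.Modules.pullback x).obj M) →ₗ[Γ(W, ⊤)]
    Sec tP ((Scheme.Modules.pullback z).obj M) :=
  TensorProduct.lift <| LinearMap.mk₂ _
    (fun s n => ⟨(pullback.fst bA bB).appTop (show Γ(A, ⊤) from s) •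
      tr₀ x (pullback.snd bA bB) z hz M n.val⟩)
    (fun s s' n => Sec.ext (by
      rw [Sec.val_add]
      show (pullback.fst bA bB).appTop ((show Γ(A, ⊤) from s) + (show Γ(A, ⊤) from s')) •
          tr₀ x (pullback.snd bA bB) z hz M n.val = _
      rw [map_add, add_smul]))
    (fun r s n => Sec.ext (by
      rw [Sec.val_smul]
      show (pullback.fst bA bB).appTop (bA.appTop r * (show Γ(A, ⊤) from s)) •
          tr₀ x (pullback.snd bA bB) z hz M n.val = _
      rw [map_mul, mul_smul, fst_appTop bA bB r htP]))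
    (fun s n n' => Sec.ext (by
      rw [Sec.val_add]
      show _ • tr₀ x (pullback.snd bA bB) z hz M (n + n').val = _
      rw [Sec.val_add, map_add, smul_add]
      all_goals rfl))
    (fun r s n => Sec.ext (by
      rw [Sec.val_smul]
      show _ • tr₀ x (pullback.snd bA bB) z hz M (r • n).val = _
      rw [Sec.val_smul, tr₀_smul, snd_appTop bA bB r htP, smul_comm]
      all_goals rfl))

theorem bcMul_tmul (s : Fn bA) (n : Sec bB ((Scheme.Modules.pullback x).obj M)) :
    (bcMul bA bB x M htP z hz (s ⊗ₜ n)).val =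
      (pullback.fst bA bB).appTop (show Γ(A, ⊤) from s) • tr₀ x (pullback.snd bA bB) z hz M n.val := rfl

theorem bijective_bcMul [IsAffine A] [IsAffine B] [IsAffine W] [Coh.IsQCoh M] :
    Function.Bijective (bcMul bA bB x M htP z hz) := by
  haveI : IsAffine (pullback bA bB) := inferInstance
  let p₁ := pullback.fst bA bB
  let p₂ := pullback.snd bA bB
  let P := (Scheme.Modules.pullback x).obj M
  haveI : Coh.IsQCoh P := EGA43.InjFibre.isQCoh_pullback x M
  have e : (⊤ : (pullback bA bB).Opens) ≤ p₂ ⁻¹ᵁ ⊤ := top_le p₂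
  let Q := Γ((Scheme.Modules.pullback p₂).obj P, ⊤)
  letI : Algebra Γ(B, ⊤) Γ(pullback bA bB, ⊤) := (p₂.appLE ⊤ ⊤ e).hom.toAlgebra
  letI : Algebra Γ(W, ⊤) Γ(pullback bA bB, ⊤) := tP.appTop.hom.toAlgebra
  letI : Algebra Γ(W, ⊤) Γ(A, ⊤) := bA.appTop.hom.toAlgebra
  letI : Algebra Γ(W, ⊤) Γ(B, ⊤) := bB.appTop.hom.toAlgebra
  letI : Algebra Γ(A, ⊤) Γ(pullback bA bB, ⊤) := p₁.appTop.hom.toAlgebra
  have e₂ : p₂.appLE ⊤ ⊤ e = p₂.appTop := (Scheme.Hom.app_eq_appLE _).symm
  haveI : IsScalarTower Γ(W, ⊤) Γ(A, ⊤) Γ(pullback bA bB, ⊤) :=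
    .of_algebraMap_eq fun r => (fst_appTop bA bB r htP).symm
  haveI : IsScalarTower Γ(W, ⊤) Γ(B, ⊤) Γ(pullback bA bB, ⊤) := .of_algebraMap_eq fun r => by
    show tP.appTop r = p₂.appLE ⊤ ⊤ e (bB.appTop r)
    rw [e₂]
    exact (snd_appTop bA bB r htP).symm
  have hsq : IsPushout bA.appTop bB.appTop p₁.appTop p₂.appTop :=
    isPushout_appTop_of_isPullback (IsPullback.of_hasPullback bA bB)
  haveI : Algebra.IsPushout Γ(W, ⊤) Γ(B, ⊤) Γ(A, ⊤) Γ(pullback bA bB, ⊤) := by
    refine CommRingCat.isPushout_iff_isPushout.1 ?_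
    convert hsq.flip using 1
    all_goals (first | rfl | (rw [← e₂]; rfl))
  haveI : Algebra.IsPushout Γ(W, ⊤) Γ(A, ⊤) Γ(B, ⊤) Γ(pullback bA bB, ⊤) := Algebra.IsPushout.symm inferInstance
  letI : Module Γ(B, ⊤) Q := Module.compHom _ (p₂.appLE ⊤ ⊤ e).hom
  letI : Module Γ(A, ⊤) Q := Module.compHom _ p₁.appTop.hom
  letI : Module Γ(W, ⊤) Q := Module.compHom _ tP.appTop.hom
  haveI : IsScalarTower Γ(B, ⊤) Γ(pullback bA bB, ⊤) Q := .of_algebraMap_smul fun _ _ => rfl
  haveI : IsScalarTower Γ(A, ⊤) Γ(pullback bA bB, ⊤) Q := .of_algebraMap_smul fun _ _ => rfl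
  haveI : IsScalarTower Γ(W, ⊤) Γ(B, ⊤) Q := .of_algebraMap_smul fun r m =>
    congrArg (fun c : Γ(pullback bA bB, ⊤) => c • m)
      (show p₂.appLE ⊤ ⊤ e (bB.appTop r) = tP.appTop r by rw [e₂]; exact snd_appTop bA bB r htP)
  haveI : IsScalarTower Γ(W, ⊤) Γ(A, ⊤) Q := .of_algebraMap_smul fun r m =>
    congrArg (fun c : Γ(pullback bA bB, ⊤) => c • m) (fst_appTop bA bB r htP)
  letI : Module Γ(W, ⊤) Γ(P, ⊤) := Module.compHom _ bB.appTop.hom
  haveI : IsScalarTower Γ(W, ⊤) Γ(B, ⊤) Γ(P, ⊤) := .of_algebraMap_smul fun _ _ => rfl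
  obtain ⟨ν, hν, hνe⟩ :=
    EGA43.InjFibre.pullMap_isBaseChange p₂ (isAffineOpen_top B) (isAffineOpen_top _) e (M := P)
  have hb := (EGA43.Cons.isBaseChange_iff_of_isPushout (R := Γ(W, ⊤)) (T := Γ(A, ⊤)) (R' := Γ(B, ⊤))
    (T' := Γ(pullback bA bB, ⊤)) ν).1 hν
  haveI : IsIso (mcI x p₂ z hz M) := ⟨mcH x p₂ z hz M, mcI_mcH _ _ _ _ _, mcH_mcI _ _ _ _ _⟩
  have hI := ConcreteCategory.bijective_of_isIso ((mcI x p₂ z hz M).app ⊤)
  let c : Fn bA ⊗[Γ(W, ⊤)] Sec bB P ≃ₗ[Γ(W, ⊤)] Γ(A, ⊤) ⊗[Γ(W, ⊤)] Γ(P, ⊤) :=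
    TensorProduct.congr
      { toFun := fun s => (show Γ(A, ⊤) from s)
        invFun := fun s => s
        left_inv := fun _ => rfl
        right_inv := fun _ => rfl
        map_add' := fun _ _ => rfl
        map_smul' := fun _ _ => rfl }
      { toFun := Sec.val
        invFun := Sec.mk
        left_inv := fun _ => rfl
        right_inv := fun _ => rfl
        map_add' := fun _ _ => rfl
        map_smul' := fun _ _ => rfl }
  have hcomp : Sec.val ∘ ⇑(bcMul bA bB x M htP z hz) = ⇑((mcI x p₂ z hz M).app ⊤) ∘ ⇑hb.equiv ∘ ⇑c :=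
    funext fun w => by
    induction w using TensorProduct.induction_on with
    | zero =>
      simp only [Function.comp_apply, map_zero, Sec.val_zero]
    | add u v hu hv =>
      simp only [Function.comp_apply] at hu hv ⊢
      simp only [map_add, Sec.val_add, hu, hv]
    | tmul s n =>
      show (bcMul bA bB x M htP z hz (s ⊗ₜ n)).val =
        (mcI x p₂ z hz M).app ⊤ (hb.equiv ((show Γ(A, ⊤) from s) ⊗ₜ n.val))
      rw [bcMul_tmul, IsBaseChange.equiv_tmul]
      refine Eq.trans ?_ (Scheme.Modules.Hom.app_smul (mcI x p₂ z hz M) (p₁.appTop (show Γ(A, ⊤) from s))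
        (ν n.val)).symm
      refine congrArg (p₁.appTop (show Γ(A, ⊤) from s) • ·) ?_
      rw [tr₀_eq]
      show (mcI x p₂ z hz M).app ⊤ (pl p₂ P (top_le p₂) n.val) = _
      refine congrArg ((mcI x p₂ z hz M).app ⊤) ?_
      rw [hνe, pullMap_eq_resM_pullSec]
      all_goals rfl
  refine (Function.Bijective.of_comp_iff' Sec.val_bijective _).1 ?_
  rw [hcomp]
  exact hI.comp (hb.equiv.bijective.comp c.bijective)

end bc

end Groth.Agent.Desc19b.QDesc
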