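import Groth.Prelude.Def_Desc
import Groth.Agent.Coherent.PullUnit
import Mathlib.CategoryTheory.Bicategory.Functor.Cat

/-!
# Sections of pullbacks: pulling back sections, and the coherence isomorphisms of `Desc.modPF`

`tr g x` pulls a section `x` of `f^* M` back along `g` to a section of `(g ≫ f)^* M`.
-/

set_option autoImplicit false
set_option backward.isDefEq.respectTransparency false
set_option backward.isDefEq.respectTransparency.types false

universe u

open CategoryTheory CategoryTheory.Limits AlgebraicGeometry Opposite TopologicalSpace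
open Groth.Agent.Coherent Groth.Agent.PicLib

namespace Groth.Agent.Desc19b.QDesc

variable {X Y Z W : Scheme.{u}}

/-- Pull a section back along a morphism, to an open inside the preimage. -/
noncomputable def pl (g : Y ⟶ X) (M : X.Modules) {U : X.Opens} {V : Y.Opens} (e : V ≤ g ⁻¹ᵁ U) :
    Γ(M, U) →+ Γ((Scheme.Modules.pullback g).obj M, V) :=
  (resM ((Scheme.Modules.pullback g).obj M) e).comp
    (((Scheme.Modules.pullbackPushforwardAdjunction g).unit.app M).app U).hom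

theorem pl_apply (g : Y ⟶ X) (M : X.Modules) {U : X.Opens} {V : Y.Opens} (e : V ≤ g ⁻¹ᵁ U) (m : Γ(M, U)) :
    pl g M e m = resM _ e (pullSec g m) := rfl

theorem pl_self (g : Y ⟶ X) (M : X.Modules) (U : X.Opens) (m : Γ(M, U)) :
    pl g M (le_refl (g ⁻¹ᵁ U)) m = pullSec g m := resM_refl _ _

theorem resM_pl (g : Y ⟶ X) (M : X.Modules) {U : X.Opens} {V V' : Y.Opens} (e : V ≤ g ⁻¹ᵁ U) (h : V' ≤ V)
    (m : Γ(M, U)) : resM _ h (pl g M e m) = pl g M (h.trans e) m := resM_resM _ _ _ _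

theorem pl_resM (g : Y ⟶ X) (M : X.Modules) {U U' : X.Opens} {V : Y.Opens} (h : U' ≤ U) (e : V ≤ g ⁻¹ᵁ U')
    (m : Γ(M, U)) : pl g M e (resM M h m) = pl g M (e.trans ((Opens.map g.base).map (homOfLE h)).le) m := by
  rw [pl_apply, ← resM_pullSec, resM_resM]
  rfl

theorem pl_smul (g : Y ⟶ X) (M : X.Modules) {U : X.Opens} {V : Y.Opens} (e : V ≤ g ⁻¹ᵁ U) (r : Γ(X, U))
    (m : Γ(M, U)) : pl g M e (r • m) = g.appLE U V e r • pl g M e m := by
  rw [pl_apply, pullSec_smul, resM_smul]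
  rfl

theorem app_pl (g : Y ⟶ X) {M N : X.Modules} (φ : M ⟶ N) {U : X.Opens} {V : Y.Opens} (e : V ≤ g ⁻¹ᵁ U)
    (m : Γ(M, U)) : ((Scheme.Modules.pullback g).map φ).app V (pl g M e m) = pl g N e (φ.app U m) := by
  rw [pl_apply, app_resM]
  refine congrArg _ ?_
  exact congr(($((Scheme.Modules.pullbackPushforwardAdjunction g).unit.naturality φ)).app U m).symm

/-- Morphisms out of a pullback are determined by their values on pulled back sections. -/
theorem pullback_hom_ext (g : Y ⟶ X) {M : X.Modules} {Q : Y.Modules}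
    {a b : (Scheme.Modules.pullback g).obj M ⟶ Q}
    (h : ∀ (U : X.Opens) (m : Γ(M, U)), a.app (g ⁻¹ᵁ U) (pullSec g m) = b.app (g ⁻¹ᵁ U) (pullSec g m)) : a = b := by
  apply ((Scheme.Modules.pullbackPushforwardAdjunction g).homEquiv M Q).injective
  ext U m
  rw [Adjunction.homEquiv_unit, Adjunction.homEquiv_unit]
  exact h U m

section coherence

variable (g : Y ⟶ X) (h : Z ⟶ Y) (k : Z ⟶ X) (hk : h ≫ g = k) (M : X.Modules)

/-- `k^* M ⟶ h^* g^* M`. -/
noncomputable def mcH : (Scheme.Modules.pullback k).obj M ⟶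
    (Scheme.Modules.pullback h).obj ((Scheme.Modules.pullback g).obj M) :=
  (Desc.modPF.{u}.mapComp' g.op.toLoc h.op.toLoc k.op.toLoc (by subst hk; rfl)).hom.toNatTrans.app M

/-- `h^* g^* M ⟶ k^* M`. -/
noncomputable def mcI : (Scheme.Modules.pullback h).obj ((Scheme.Modules.pullback g).obj M) ⟶
    (Scheme.Modules.pullback k).obj M :=
  (Desc.modPF.{u}.mapComp' g.op.toLoc h.op.toLoc k.op.toLoc (by subst hk; rfl)).inv.toNatTrans.app M

@[reassoc (attr := simp)]
theorem mcH_mcI : mcH g h k hk M ≫ mcI g h k hk M = 𝟙 _ :=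
  Iso.hom_inv_id_app (Cat.Hom.toNatIso (Desc.modPF.{u}.mapComp' g.op.toLoc h.op.toLoc k.op.toLoc
    (by subst hk; rfl))) M

@[reassoc (attr := simp)]
theorem mcI_mcH : mcI g h k hk M ≫ mcH g h k hk M = 𝟙 _ :=
  Iso.inv_hom_id_app (Cat.Hom.toNatIso (Desc.modPF.{u}.mapComp' g.op.toLoc h.op.toLoc k.op.toLoc
    (by subst hk; rfl))) M

theorem mcI_naturality {N : X.Modules} (φ : M ⟶ N) :
    (Scheme.Modules.pullback h).map ((Scheme.Modules.pullback g).map φ) ≫ mcI g h k hk N =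
      mcI g h k hk M ≫ (Scheme.Modules.pullback k).map φ :=
  Pseudofunctor.mapComp'_inv_naturality Desc.modPF.{u} g.op.toLoc h.op.toLoc k.op.toLoc
    (by subst hk; rfl) φ

theorem mcI_eq : mcI g h k hk M =
    (Scheme.Modules.pullbackComp h g).hom.app M ≫ (Scheme.Modules.pullbackCongr hk).hom.app M := by
  subst hk
  have e : Desc.modPF.{u}.mapComp' g.op.toLoc h.op.toLoc (h ≫ g).op.toLoc rfl =
      Desc.modPF.{u}.mapComp g.op.toLoc h.op.toLoc :=
    Pseudofunctor.mapComp'_eq_mapComp Desc.modPF.{u} g.op.toLoc h.op.toLoc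
  rw [mcI, e]
  exact (Category.comp_id _).symm

theorem mcI_app_pl {U : X.Opens} {V : Y.Opens} {V' : Z.Opens} (e : V ≤ g ⁻¹ᵁ U) (e' : V' ≤ h ⁻¹ᵁ V)
    (m : Γ(M, U)) :
    (mcI g h k hk M).app V' (pl h _ e' (pl g M e m)) =
      pl k M (e'.trans (((Opens.map h.base).map (homOfLE e)).le.trans (le_of_eq (by subst hk; rfl)))) m := by
  subst hk
  rw [mcI_eq]
  have key : pl h _ e' (pl g M e m) =
      ((Scheme.Modules.pullbackComp h g).inv.app M).app V'
        (pl (h ≫ g) M (e'.trans ((Opens.map h.base).map (homOfLE e)).le) m) := by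
    rw [pl_apply g, pl_resM, pl_apply (h ≫ g), app_resM, pullbackComp_inv_app_pullSec]
    rfl
  rw [key]
  exact congr(($((Scheme.Modules.pullbackComp h g).inv_hom_id_app M)).app V' _)

/-- Pull a section of `g^* M` back along `h` to a section of `k^* M`. -/
noncomputable def tr {V : Y.Opens} {V' : Z.Opens} (e : V' ≤ h ⁻¹ᵁ V) :
    Γ((Scheme.Modules.pullback g).obj M, V) →+ Γ((Scheme.Modules.pullback k).obj M, V') :=
  ((mcI g h k hk M).app V').hom.comp (pl h _ e)

theorem tr_apply {V : Y.Opens} {V' : Z.Opens} (e : V' ≤ h ⁻¹ᵁ V)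
    (x : Γ((Scheme.Modules.pullback g).obj M, V)) :
    tr g h k hk M e x = (mcI g h k hk M).app V' (pl h _ e x) := rfl

theorem tr_pl {U : X.Opens} {V : Y.Opens} {V' : Z.Opens} (e : V ≤ g ⁻¹ᵁ U) (e' : V' ≤ h ⁻¹ᵁ V) (m : Γ(M, U)) :
    tr g h k hk M e' (pl g M e m) =
      pl k M (e'.trans (((Opens.map h.base).map (homOfLE e)).le.trans (le_of_eq (by subst hk; rfl)))) m :=
  mcI_app_pl g h k hk M e e' m

theorem tr_smul {V : Y.Opens} {V' : Z.Opens} (e : V' ≤ h ⁻¹ᵁ V) (r : Γ(Y, V))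
    (x : Γ((Scheme.Modules.pullback g).obj M, V)) :
    tr g h k hk M e (r • x) = h.appLE V V' e r • tr g h k hk M e x := by
  rw [tr_apply, pl_smul, Scheme.Modules.Hom.app_smul]
  rfl

theorem resM_tr {V : Y.Opens} {V' V'' : Z.Opens} (e : V' ≤ h ⁻¹ᵁ V) (h' : V'' ≤ V')
    (x : Γ((Scheme.Modules.pullback g).obj M, V)) :
    resM _ h' (tr g h k hk M e x) = tr g h k hk M (h'.trans e) x := by
  rw [tr_apply, ← app_resM, resM_pl]
  rfl

theorem tr_resM {V V₁ : Y.Opens} {V' : Z.Opens} (h₁ : V₁ ≤ V) (e : V' ≤ h ⁻¹ᵁ V₁)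
    (x : Γ((Scheme.Modules.pullback g).obj M, V)) :
    tr g h k hk M e (resM _ h₁ x) = tr g h k hk M (e.trans ((Opens.map h.base).map (homOfLE h₁)).le) x := by
  rw [tr_apply, pl_resM]
  rfl

theorem app_tr {N : X.Modules} (φ : M ⟶ N) {V : Y.Opens} {V' : Z.Opens} (e : V' ≤ h ⁻¹ᵁ V)
    (x : Γ((Scheme.Modules.pullback g).obj M, V)) :
    ((Scheme.Modules.pullback k).map φ).app V' (tr g h k hk M e x) =
      tr g h k hk N e (((Scheme.Modules.pullback g).map φ).app V x) := by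
  rw [tr_apply, tr_apply, ← app_pl]
  exact congr(($(mcI_naturality g h k hk M φ)).app V' (pl h _ e x)).symm

end coherence

theorem tr_tr (g : Y ⟶ X) (h : Z ⟶ Y) (k : Z ⟶ X) (hk : h ≫ g = k) (h' : W ⟶ Z) (k' : W ⟶ X)
    (hk' : h' ≫ k = k') (M : X.Modules) {V : Y.Opens} {V' : Z.Opens} {V'' : W.Opens}
    (e : V' ≤ h ⁻¹ᵁ V) (e' : V'' ≤ h' ⁻¹ᵁ V') (x : Γ((Scheme.Modules.pullback g).obj M, V)) :
    tr k h' k' hk' M e' (tr g h k hk M e x) =
      tr g (h' ≫ h) k' (by rw [Category.assoc, hk, hk']) M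
        (e'.trans ((Opens.map h'.base).map (homOfLE e)).le) x := by
  have E : mcI h h' (h' ≫ h) rfl ((Scheme.Modules.pullback g).obj M) ≫ mcI g (h' ≫ h) k'
      (by rw [Category.assoc, hk, hk']) M = (Scheme.Modules.pullback h').map (mcI g h k hk M) ≫ mcI k h' k' hk' M :=
    (Pseudofunctor.mapComp'_inv_whiskerRight_mapComp'₀₂₃_inv_app Desc.modPF.{u} g.op.toLoc h.op.toLoc
      h'.op.toLoc k.op.toLoc (h' ≫ h).op.toLoc k'.op.toLoc (by subst hk; rfl) rfl (by subst hk'; rfl) M).symm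
  rw [tr_apply k, tr_apply g h, ← app_pl h' (mcI g h k hk M) e', tr_apply g (h' ≫ h),
    ← mcI_app_pl h h' (h' ≫ h) rfl ((Scheme.Modules.pullback g).obj M) e e' x]
  exact congr(($E).app V'' (pl h' _ e' (pl h _ e x))).symm

theorem pl_id_bijective (M : X.Modules) (U : X.Opens) :
    Function.Bijective (pl (𝟙 X) M (le_refl ((𝟙 X) ⁻¹ᵁ U))) := by
  let u := (Scheme.Modules.pullbackPushforwardAdjunction (𝟙 X)).unit.app M
  haveI : IsIso u := by
    have e := unit_conjugateEquiv .id (Scheme.Modules.pullbackPushforwardAdjunction (𝟙 X))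
      (Scheme.Modules.pullbackId X).hom M
    rw [Scheme.Modules.conjugateEquiv_pullbackId_hom] at e
    simp only [Adjunction.id, NatTrans.id_app, Functor.id_obj, Category.id_comp] at e
    exact IsIso.of_isIso_fac_right (h := (Scheme.Modules.pushforwardId X).inv.app M) e.symm
  have hb := ConcreteCategory.bijective_of_isIso (u.app U)
  exact (funext fun m => (pl_self (𝟙 X) M U m)) ▸ hb

end Groth.Agent.Desc19b.QDesc
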