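import Groth.Agent.Desc19b.QDesc.Points
import Groth.Agent.TwistLib.Glue

/-!
# The module descended from a descent datum

`descended D` has as sections over `U` the compatible families `n_i ∈ Γ(D_i, f_i⁻¹U)`.
-/

set_option autoImplicit false
set_option backward.isDefEq.respectTransparency false
set_option backward.isDefEq.respectTransparency.types false

universe u

open CategoryTheory CategoryTheory.Limits AlgebraicGeometry Opposite TopologicalSpace
open Groth.Agent.Coherent Groth.Agent.PicLib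

namespace Groth.Agent.Desc19b.QDesc

section plHom

variable {X T Z : Scheme.{u}} (g : T ⟶ X) (z : Z ⟶ T) (k : Z ⟶ X) (hk : z ≫ g = k)

include hk in
theorem preimage_le_preimage (U : X.Opens) : k ⁻¹ᵁ U ≤ z ⁻¹ᵁ (g ⁻¹ᵁ U) := by
  subst hk
  exact le_rfl

/-- Pulling back sections, as a morphism of pushforwards to the base. -/
noncomputable def plHom (M : T.Modules) : (Scheme.Modules.pushforward g).obj M ⟶
    (Scheme.Modules.pushforward k).obj ((Scheme.Modules.pullback z).obj M) :=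
  ⟨PresheafOfModules.homMk
    { app := fun U => AddCommGrpCat.ofHom (pl z M (preimage_le_preimage g z k hk U.unop))
      naturality := fun U V h => by
        ext (m : Γ(M, g ⁻¹ᵁ U.unop))
        show pl z M _ (resM M ((Opens.map g.base).map h.unop).le m) =
          resM _ ((Opens.map k.base).map h.unop).le (pl z M _ m)
        rw [pl_resM, resM_pl] }
    (fun U r (m : Γ(M, g ⁻¹ᵁ U.unop)) => by
      show pl z M (preimage_le_preimage g z k hk U.unop) (g.app U.unop (show Γ(X, U.unop) from r) • m) =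
        k.app U.unop (show Γ(X, U.unop) from r) • pl z M (preimage_le_preimage g z k hk U.unop) m
      rw [pl_smul]
      subst hk
      rw [Scheme.Hom.app_eq_appLE, Scheme.Hom.app_eq_appLE, ← CommRingCat.comp_apply, Scheme.Hom.appLE_comp_appLE])⟩

theorem plHom_app (M : T.Modules) (U : X.Opens) (m : Γ(M, g ⁻¹ᵁ U)) :
    (plHom g z k hk M).app U m = pl z M (preimage_le_preimage g z k hk U) m := rfl

end plHom

variable {ι : Type u} {S : Scheme.{u}} {Xf : ι → Scheme.{u}} {f : ∀ i, Xf i ⟶ S}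
  (D : Desc.modPF.{u}.DescentData f)

/-- The base of the double overlaps. -/
noncomputable abbrev ovl (f : ∀ i, Xf i ⟶ S) (p : ι × ι) : pullback (f p.1) (f p.2) ⟶ S :=
  pullback.fst (f p.1) (f p.2) ≫ f p.1

/-- The factors. -/
noncomputable abbrev facG (i : ι) : S.Modules := (Scheme.Modules.pushforward (f i)).obj (ob D i)

/-- The modules of conditions. -/
noncomputable abbrev facH (p : ι × ι) : S.Modules :=
  (Scheme.Modules.pushforward (ovl f p)).obj
    ((Scheme.Modules.pullback (pullback.snd (f p.1) (f p.2))).obj (ob D p.2))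

/-- Restriction of the first member, glued. -/
noncomputable def facA (p : ι × ι) : facG D p.1 ⟶ facH D p :=
  plHom (f p.1) (pullback.fst (f p.1) (f p.2)) (ovl f p) rfl (ob D p.1) ≫
    (Scheme.Modules.pushforward (ovl f p)).map
      (dhom D (pullback.fst (f p.1) (f p.2)) (pullback.snd (f p.1) (f p.2)) pullback.condition)

/-- Restriction of the second member. -/
noncomputable def facB (p : ι × ι) : facG D p.2 ⟶ facH D p :=
  plHom (f p.2) (pullback.snd (f p.1) (f p.2)) (ovl f p) pullback.condition.symm (ob D p.2)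

/-- The descended module. -/
noncomputable def descended : S.Modules :=
  TwistLib.glued (facG D) (facH D) Prod.fst Prod.snd (facA D) (facB D)

/-- The member over `X i` of a section of the descended module. -/
noncomputable def comp' (i : ι) : descended D ⟶ facG D i :=
  TwistLib.gluedπ (facG D) (facH D) Prod.fst Prod.snd (facA D) (facB D) i

/-- The member over `X i`, as a section of `D_i`. -/
noncomputable def mem' (i : ι) (U : S.Opens) : Γ(descended D, U) →+ Γ(ob D i, f i ⁻¹ᵁ U) :=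
  ((comp' D i).app U).hom

/-- Compatible families. -/
def IsCompat (U : S.Opens) (n : ∀ i, Γ(ob D i, f i ⁻¹ᵁ U)) : Prop :=
  ∀ p : ι × ι, (dhom D (pullback.fst (f p.1) (f p.2)) (pullback.snd (f p.1) (f p.2)) pullback.condition).app _
      (pl (pullback.fst (f p.1) (f p.2)) _ (preimage_le_preimage (f p.1) _ (ovl f p) rfl U) (n p.1)) =
    pl (pullback.snd (f p.1) (f p.2)) _ (preimage_le_preimage (f p.2) _ (ovl f p) pullback.condition.symm U) (n p.2)

theorem isCompat_mem' {U : S.Opens} (m : Γ(descended D, U)) : IsCompat D U (fun i => mem' D i U m) := fun p =>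
  congr(($(TwistLib.glued_condition (facG D) (facH D) Prod.fst Prod.snd (facA D) (facB D) p)).app U m)

theorem mem'_ext {U : S.Opens} {m m' : Γ(descended D, U)} (h : ∀ i, mem' D i U m = mem' D i U m') : m = m' :=
  TwistLib.glued_ext _ _ _ _ _ _ h

theorem exists_of_isCompat {U : S.Opens} (n : ∀ i, Γ(ob D i, f i ⁻¹ᵁ U)) (hn : IsCompat D U n) :
    ∃ m : Γ(descended D, U), ∀ i, mem' D i U m = n i :=
  TwistLib.glued_surj (facG D) (facH D) Prod.fst Prod.snd (facA D) (facB D) n hn

theorem resM_mem' (i : ι) {U U' : S.Opens} (h : U' ≤ U) (m : Γ(descended D, U)) :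
    mem' D i U' (resM _ h m) = resM _ ((Opens.map (f i).base).map (homOfLE h)).le (mem' D i U m) :=
  app_resM (comp' D i) h m

theorem mem'_smul (i : ι) {U : S.Opens} (r : Γ(S, U)) (m : Γ(descended D, U)) :
    mem' D i U (r • m) = (f i).app U r • mem' D i U m :=
  Scheme.Modules.Hom.app_smul (comp' D i) r m

variable {Z : Scheme.{u}} {i j : ι}

/-- Gluing, moved along a morphism of points. -/
theorem dhom_pl_transfer {Z' : Scheme.{u}} (g : Z' ⟶ Z) (x : Z ⟶ Xf i) (y : Z ⟶ Xf j) (h : x ≫ f i = y ≫ f j)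
    (x' : Z' ⟶ Xf i) (y' : Z' ⟶ Xf j) (hx : g ≫ x = x') (hy : g ≫ y = y') {U₁ : (Xf i).Opens} {U₂ : (Xf j).Opens}
    {V : Z.Opens} {V' : Z'.Opens} (e₁ : V ≤ x ⁻¹ᵁ U₁) (e₂ : V ≤ y ⁻¹ᵁ U₂) (e : V' ≤ g ⁻¹ᵁ V)
    (e₁' : V' ≤ x' ⁻¹ᵁ U₁) (e₂' : V' ≤ y' ⁻¹ᵁ U₂) (n₁ : Γ(ob D i, U₁)) (n₂ : Γ(ob D j, U₂))
    (hn : (dhom D x y h).app V (pl x _ e₁ n₁) = pl y _ e₂ n₂) :
    (dhom D x' y' (by rw [← hx, ← hy, Category.assoc, Category.assoc, h])).app V' (pl x' _ e₁' n₁) =
      pl y' _ e₂' n₂ := by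
  have e'' : dhom D x' y' (by rw [← hx, ← hy, Category.assoc, Category.assoc, h]) =
      mcH x g x' hx (ob D i) ≫ (Scheme.Modules.pullback g).map (dhom D x y h) ≫ mcI y g y' hy (ob D j) :=
    (dhom_eq D (x' ≫ f i) x' y' rfl (by rw [← hx, ← hy, Category.assoc, Category.assoc, h])).trans
      (D.pullHom_hom g (x ≫ f i) (x' ≫ f i) (by rw [← hx, Category.assoc]) x y rfl h.symm x' y' hx hy).symm
  have E : mcI x g x' hx (ob D i) ≫ dhom D x' y' (by rw [← hx, ← hy, Category.assoc, Category.assoc, h]) =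
      (Scheme.Modules.pullback g).map (dhom D x y h) ≫ mcI y g y' hy (ob D j) := by
    rw [e'', mcI_mcH_assoc]
  rw [← mcI_app_pl x g x' hx (ob D i) e₁ e n₁, ← mcI_app_pl y g y' hy (ob D j) e₂ e n₂, ← hn,
    ← app_pl g (dhom D x y h) e]
  exact congr(($E).app V' (pl g _ e (pl x _ e₁ n₁)))

/-- A compatible family is compatible on any pair of points. -/
theorem IsCompat.on_points {U : S.Opens} {n : ∀ i, Γ(ob D i, f i ⁻¹ᵁ U)} (hn : IsCompat D U n) (x : Z ⟶ Xf i)
    (y : Z ⟶ Xf j) (h : x ≫ f i = y ≫ f j) {V : Z.Opens} (e₁ : V ≤ x ⁻¹ᵁ (f i ⁻¹ᵁ U))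
    (e₂ : V ≤ y ⁻¹ᵁ (f j ⁻¹ᵁ U)) :
    (dhom D x y h).app V (pl x _ e₁ (n i)) = pl y _ e₂ (n j) := by
  have e : V ≤ pullback.lift x y h ⁻¹ᵁ (ovl f (i, j) ⁻¹ᵁ U) := by
    rw [← Scheme.Hom.comp_preimage, ← Category.assoc, pullback.lift_fst]
    exact e₁
  exact dhom_pl_transfer D (pullback.lift x y h) _ _ pullback.condition x y (pullback.lift_fst _ _ _)
    (pullback.lift_snd _ _ _) _ _ e e₁ e₂ (n i) (n j) (hn (i, j))

/-- The comparison `f_i^* M ⟶ D_i`. -/
noncomputable def counit' (i : ι) : (Scheme.Modules.pullback (f i)).obj (descended D) ⟶ ob D i :=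
  ((Scheme.Modules.pullbackPushforwardAdjunction (f i)).homEquiv _ _).symm (comp' D i)

theorem counit'_app_pl (i : ι) {U : S.Opens} {V : (Xf i).Opens} (e : V ≤ f i ⁻¹ᵁ U) (m : Γ(descended D, U)) :
    (counit' D i).app V (pl (f i) _ e m) = resM _ e (mem' D i U m) := by
  rw [pl_apply, app_resM]
  refine congrArg _ ?_
  have h := Equiv.apply_symm_apply
    ((Scheme.Modules.pullbackPushforwardAdjunction (f i)).homEquiv (descended D) (ob D i)) (comp' D i)
  rw [Adjunction.homEquiv_unit] at h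
  exact congr(($h).app U m)

/-- The comparisons commute with the gluing. -/
theorem counit'_comm {Y : Scheme.{u}} (q : Y ⟶ S) (x : Y ⟶ Xf i) (y : Y ⟶ Xf j) (hx : x ≫ f i = q)
    (hy : y ≫ f j = q) :
    (Scheme.Modules.pullback x).map (counit' D i) ≫ D.hom q x y hx hy =
      (mcI (f i) x q hx (descended D) ≫ mcH (f j) y q hy (descended D)) ≫
        (Scheme.Modules.pullback y).map (counit' D j) := by
  rw [← dhom_eq D q x y hx hy]
  haveI : IsIso (mcH (f i) x q hx (descended D)) :=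
    ⟨mcI (f i) x q hx (descended D), mcH_mcI _ _ _ _ _, mcI_mcH _ _ _ _ _⟩
  rw [← cancel_epi (mcH (f i) x q hx (descended D)), Category.assoc, mcH_mcI_assoc]
  refine pullback_hom_ext q fun U m => ?_
  have e₁ : q ⁻¹ᵁ U ≤ x ⁻¹ᵁ (f i ⁻¹ᵁ U) := preimage_le_preimage (f i) x q hx U
  have e₂ : q ⁻¹ᵁ U ≤ y ⁻¹ᵁ (f j ⁻¹ᵁ U) := preimage_le_preimage (f j) y q hy U
  show (dhom D x y (hx.trans hy.symm)).app _ (((Scheme.Modules.pullback x).map (counit' D i)).app _
      ((mcH (f i) x q hx (descended D)).app _ (pullSec q m))) =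
    ((Scheme.Modules.pullback y).map (counit' D j)).app _
      ((mcH (f j) y q hy (descended D)).app _ (pullSec q m))
  have h₁ : (mcH (f i) x q hx (descended D)).app _ (pullSec q m) = pl x _ e₁ (pl (f i) _ le_rfl m) := by
    rw [← pl_self q, ← mcI_app_pl (f i) x q hx (descended D) (le_refl (f i ⁻¹ᵁ U)) e₁ m]
    exact congr(($(mcI_mcH (f i) x q hx (descended D))).app _ (pl x _ e₁ (pl (f i) _ le_rfl m)))
  have h₂ : (mcH (f j) y q hy (descended D)).app _ (pullSec q m) = pl y _ e₂ (pl (f j) _ le_rfl m) := by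
    rw [← pl_self q, ← mcI_app_pl (f j) y q hy (descended D) (le_refl (f j ⁻¹ᵁ U)) e₂ m]
    exact congr(($(mcI_mcH (f j) y q hy (descended D))).app _ (pl y _ e₂ (pl (f j) _ le_rfl m)))
  rw [h₁, h₂, app_pl, app_pl, counit'_app_pl, counit'_app_pl, resM_refl, resM_refl]
  exact (isCompat_mem' D m).on_points D x y (hx.trans hy.symm) e₁ e₂

end Groth.Agent.Desc19b.QDesc
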