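import Groth.Agent.Desc19b.QDesc.Glue

/-!
# fpqc descent of sections over an open
-/

set_option autoImplicit false
set_option backward.isDefEq.respectTransparency false
set_option backward.isDefEq.respectTransparency.types false
set_option linter.style.haveILetI false
set_option linter.unusedSectionVars false

universe u

open CategoryTheory CategoryTheory.Limits AlgebraicGeometry Opposite TopologicalSpace
open Groth.Agent.Coherent Groth.Agent.PicLib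

namespace Groth.Agent.Desc19b.QDesc

variable {ι : Type u} {X : Scheme.{u}} {T : ι → Scheme.{u}} {g : ∀ i, T i ⟶ X}

theorem le_preimage_fst {W B₁ B₂ : Scheme.{u}} (b₁ : B₁ ⟶ W) (b₂ : B₂ ⟶ W) (U : W.Opens) :
    (pullback.fst b₁ b₂ ≫ b₁) ⁻¹ᵁ U ≤ pullback.fst b₁ b₂ ⁻¹ᵁ (b₁ ⁻¹ᵁ U) := fun _ h => h

theorem le_preimage_snd {W B₁ B₂ : Scheme.{u}} (b₁ : B₁ ⟶ W) (b₂ : B₂ ⟶ W) (U : W.Opens) :
    (pullback.fst b₁ b₂ ≫ b₁) ⁻¹ᵁ U ≤ pullback.snd b₁ b₂ ⁻¹ᵁ (b₂ ⁻¹ᵁ U) := by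
  rw [pullback.condition]
  exact le_rfl

/-- A flat family with affine refinements restricts to opens of the base. -/
theorem Cov.restrict (hg : Cov g) (U : X.Opens) : Cov (fun i => g i ∣_ U) := by
  refine ⟨fun i => ?_, fun W hW => ?_⟩
  · haveI := hg.flat i
    exact IsZariskiLocalAtTarget.restrict ‹Flat (g i)› U
  · obtain ⟨R⟩ := hg.refin _ (hW.image_of_isOpenImmersion U.ι)
    refine ⟨{ κ := R.κ, fin := R.fin, a := R.a, V := fun l => (g (R.a l) ⁻¹ᵁ U).ι ⁻¹ᵁ R.V l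
              hV := fun l => ?_, e := fun l x hx => ?_, surj := fun w hw => ?_ }⟩
    · refine (R.hV l).preimage_of_isOpenImmersion _ ?_
      rw [Scheme.Opens.opensRange_ι]
      exact (R.e l).trans fun x hx => by
        obtain ⟨w, -, hw⟩ := hx
        show g (R.a l) x ∈ U
        rw [← hw]
        exact w.2
    · obtain ⟨w, hw, he⟩ := R.e l hx
      have : U.ι ((g (R.a l) ∣_ U) x) = U.ι w := (congr($(morphismRestrict_ι (g (R.a l)) U) x)).trans he.symm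
      show (g (R.a l) ∣_ U) x ∈ W
      rwa [U.ι.isOpenEmbedding.injective this]
    · obtain ⟨l, x, hx, he⟩ := R.surj (U.ι w) ⟨w, hw, rfl⟩
      refine ⟨l, ⟨x, ?_⟩, hx, U.ι.isOpenEmbedding.injective ?_⟩
      · show g (R.a l) x ∈ U
        rw [he]
        exact w.2
      · exact (congr($(morphismRestrict_ι (g (R.a l)) U) ⟨x, _⟩)).trans he

variable (P : X.Modules) [Coh.IsQCoh P]

/-- Compatibility on two arbitrary points. -/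
theorem tr_pair {U : X.Opens} {i j : ι} {t : ∀ i, Γ((Scheme.Modules.pullback (g i)).obj P, g i ⁻¹ᵁ U)}
    (ht : ∀ i j, tr (g i) (pullback.fst (g i) (g j)) (pullback.fst (g i) (g j) ≫ g i) rfl P
        (le_preimage_fst (g i) (g j) U) (t i) =
      tr (g j) (pullback.snd (g i) (g j)) (pullback.fst (g i) (g j) ≫ g i) pullback.condition.symm P
        (le_preimage_snd (g i) (g j) U) (t j))
    {Z : Scheme.{u}} (z : Z ⟶ T i) (z' : Z ⟶ T j) (k : Z ⟶ X) (hz : z ≫ g i = k) (hz' : z' ≫ g j = k)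
    {V : Z.Opens} (e : V ≤ z ⁻¹ᵁ (g i ⁻¹ᵁ U)) (e' : V ≤ z' ⁻¹ᵁ (g j ⁻¹ᵁ U)) :
    tr (g i) z k hz P e (t i) = tr (g j) z' k hz' P e' (t j) := by
  have eL : V ≤ pullback.lift z z' (hz.trans hz'.symm) ⁻¹ᵁ ((pullback.fst (g i) (g j) ≫ g i) ⁻¹ᵁ U) := by
    rw [← Scheme.Hom.comp_preimage, ← Category.assoc, pullback.lift_fst]
    exact e
  have h := congrArg (tr (pullback.fst (g i) (g j) ≫ g i) (pullback.lift z z' (hz.trans hz'.symm)) k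
    (by rw [← Category.assoc, pullback.lift_fst, hz]) P eL) (ht i j)
  rw [tr_tr, tr_tr] at h
  simp only [pullback.lift_fst, pullback.lift_snd] at h
  exact h

omit [Coh.IsQCoh P] in
/-- Moving compatibility to the opens. -/
theorem compat_transfer {W B₁ B₂ T₁ T₂ Z : Scheme.{u}} (j : W ⟶ X) (g₁ : T₁ ⟶ X) (g₂ : T₂ ⟶ X) (b₁ : B₁ ⟶ W)
    (b₂ : B₂ ⟶ W) (v₁ : B₁ ⟶ T₁) (v₂ : B₂ ⟶ T₂) (k₁ : B₁ ⟶ X) (k₂ : B₂ ⟶ X) (hb₁ : b₁ ≫ j = k₁)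
    (hb₂ : b₂ ≫ j = k₂) (hv₁ : v₁ ≫ g₁ = k₁) (hv₂ : v₂ ≫ g₂ = k₂) (p₁ : Z ⟶ B₁) (p₂ : Z ⟶ B₂) (q : Z ⟶ W)
    (hq₁ : p₁ ≫ b₁ = q) (hq₂ : p₂ ≫ b₂ = q) (r : Z ⟶ X) (hr : q ≫ j = r) {U₁ : T₁.Opens} {U₂ : T₂.Opens}
    (e₁ : (⊤ : B₁.Opens) ≤ v₁ ⁻¹ᵁ U₁) (e₂ : (⊤ : B₂.Opens) ≤ v₂ ⁻¹ᵁ U₂)
    (t₁ : Γ((Scheme.Modules.pullback g₁).obj P, U₁)) (t₂ : Γ((Scheme.Modules.pullback g₂).obj P, U₂))
    (u₁ : Γ((Scheme.Modules.pullback b₁).obj ((Scheme.Modules.pullback j).obj P), ⊤))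
    (u₂ : Γ((Scheme.Modules.pullback b₂).obj ((Scheme.Modules.pullback j).obj P), ⊤))
    (hu₁ : (mcI j b₁ k₁ hb₁ P).app ⊤ u₁ = tr g₁ v₁ k₁ hv₁ P e₁ t₁)
    (hu₂ : (mcI j b₂ k₂ hb₂ P).app ⊤ u₂ = tr g₂ v₂ k₂ hv₂ P e₂ t₂)
    (h : ∀ (h₁ : (p₁ ≫ v₁) ≫ g₁ = r) (h₂ : (p₂ ≫ v₂) ≫ g₂ = r) (f₁ : (⊤ : Z.Opens) ≤ (p₁ ≫ v₁) ⁻¹ᵁ U₁)
      (f₂ : (⊤ : Z.Opens) ≤ (p₂ ≫ v₂) ⁻¹ᵁ U₂),
      tr g₁ (p₁ ≫ v₁) r h₁ P f₁ t₁ = tr g₂ (p₂ ≫ v₂) r h₂ P f₂ t₂) :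
    tr₀ b₁ p₁ q hq₁ _ u₁ = tr₀ b₂ p₂ q hq₂ _ u₂ := by
  have hQ : Function.Bijective ((mcI j q r hr P).app ⊤) := by
    haveI : IsIso (mcI j q r hr P) := ⟨mcH _ _ _ _ _, mcI_mcH _ _ _ _ _, mcH_mcI _ _ _ _ _⟩
    exact ConcreteCategory.bijective_of_isIso _
  refine hQ.1 ?_
  rw [mcI_tr₀ j b₁ k₁ hb₁ p₁ q hq₁ r (by rw [← hb₁, ← Category.assoc, hq₁, hr]) P u₁, hu₁,
    mcI_tr₀ j b₂ k₂ hb₂ p₂ q hq₂ r (by rw [← hb₂, ← Category.assoc, hq₂, hr]) P u₂, hu₂,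
    tr₀_def, tr₀_def, tr_tr, tr_tr]
  exact h _ _ _ _

omit [Coh.IsQCoh P] in
theorem bijective_tr_openImm {W Y : Scheme.{u}} (g' : Y ⟶ X) (j : W ⟶ Y) [IsOpenImmersion j] (k : W ⟶ X)
    (hk : j ≫ g' = k) {V : Y.Opens} (hV : V = j.opensRange) (e : (⊤ : W.Opens) ≤ j ⁻¹ᵁ V) :
    Function.Bijective (tr g' j k hk P e) := by
  haveI : IsIso (mcI g' j k hk P) := ⟨mcH _ _ _ _ _, mcI_mcH _ _ _ _ _, mcH_mcI _ _ _ _ _⟩
  exact (ConcreteCategory.bijective_of_isIso ((mcI g' j k hk P).app ⊤)).comp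
    (bijective_pl_of_opensRange j _ hV e)

omit [Coh.IsQCoh P] in
theorem tr_pl_eq {W Y B : Scheme.{u}} (g' : Y ⟶ X) (v : B ⟶ Y) (j : W ⟶ X) (b : B ⟶ W) (k : B ⟶ X)
    (hv : v ≫ g' = k) (hb : b ≫ j = k) {U : X.Opens} {V : Y.Opens} (eV : V ≤ g' ⁻¹ᵁ U)
    (e : (⊤ : B.Opens) ≤ v ⁻¹ᵁ V) (ej : (⊤ : W.Opens) ≤ j ⁻¹ᵁ U) (n : Γ(P, U)) :
    tr g' v k hv P e (pl g' P eV n) = (mcI j b k hb P).app ⊤ (pl b _ (top_le b) (pl j P ej n)) :=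
  (tr_pl g' v k hv P eV e n).trans (mcI_app_pl j b k hb P ej (top_le b) n).symm

/-- fpqc descent of sections over an open. -/
theorem existsUnique_glue_open (hg : Cov g) (U : X.Opens)
    (t : ∀ i, Γ((Scheme.Modules.pullback (g i)).obj P, g i ⁻¹ᵁ U))
    (ht : ∀ i j, tr (g i) (pullback.fst (g i) (g j)) (pullback.fst (g i) (g j) ≫ g i) rfl P
        (le_preimage_fst (g i) (g j) U) (t i) =
      tr (g j) (pullback.snd (g i) (g j)) (pullback.fst (g i) (g j) ≫ g i) pullback.condition.symm P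
        (le_preimage_snd (g i) (g j) U) (t j)) :
    ∃! n : Γ(P, U), ∀ i, pl (g i) P (le_refl (g i ⁻¹ᵁ U)) n = t i := by
  haveI : Coh.IsQCoh ((Scheme.Modules.pullback U.ι).obj P) := EGA43.InjFibre.isQCoh_pullback U.ι P
  have hk : ∀ i, (g i ∣_ U) ≫ U.ι = (g i ⁻¹ᵁ U).ι ≫ g i := fun i => morphismRestrict_ι _ _
  have eT : ∀ i, (⊤ : (g i ⁻¹ᵁ U).toScheme.Opens) ≤ (g i ⁻¹ᵁ U).ι ⁻¹ᵁ (g i ⁻¹ᵁ U) :=
    fun i => (g i ⁻¹ᵁ U).ι_preimage_self.ge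
  have hto := fun i => bijective_tr_openImm P (g i) (g i ⁻¹ᵁ U).ι _ rfl (g i ⁻¹ᵁ U).opensRange_ι.symm (eT i)
  have hI : ∀ i, Function.Bijective ((mcI U.ι (g i ∣_ U) _ (hk i) P).app ⊤) := fun i => by
    haveI : IsIso (mcI U.ι (g i ∣_ U) _ (hk i) P) := ⟨mcH _ _ _ _ _, mcI_mcH _ _ _ _ _, mcH_mcI _ _ _ _ _⟩
    exact ConcreteCategory.bijective_of_isIso _
  choose u' hu' using fun i => (hI i).2 (tr (g i) (g i ⁻¹ᵁ U).ι _ rfl P (eT i) (t i))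
  obtain ⟨σ, hσ, huniq⟩ := existsUnique_glue ((Scheme.Modules.pullback U.ι).obj P) (hg.restrict U) u'
    fun i j => compat_transfer P U.ι (g i) (g j) (g i ∣_ U) (g j ∣_ U) (g i ⁻¹ᵁ U).ι (g j ⁻¹ᵁ U).ι _ _
      (hk i) (hk j) rfl rfl _ _ _ rfl pullback.condition.symm _ rfl (eT i) (eT j) (t i) (t j) (u' i) (u' j)
      (hu' i) (hu' j) (fun h₁ h₂ f₁ f₂ => tr_pair P ht _ _ _ h₁ h₂ f₁ f₂)
  have hb := bijective_pl_of_opensRange U.ι P U.opensRange_ι.symm U.ι_preimage_self.ge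
  obtain ⟨n, hn⟩ := hb.2 σ
  have key := fun (n' : Γ(P, U)) i => tr_pl_eq P (g i) (g i ⁻¹ᵁ U).ι U.ι (g i ∣_ U) _ rfl (hk i)
    (le_refl (g i ⁻¹ᵁ U)) (eT i) U.ι_preimage_self.ge n'
  refine ⟨n, fun i => (hto i).1 ?_, fun n' hn' => hb.1 ((huniq _ fun i => (hI i).1 ?_).trans hn.symm)⟩
  · rw [key, hn, hσ i, hu' i]
  · rw [← key n' i, hn' i, hu' i]

end Groth.Agent.Desc19b.QDesc
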