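import Groth.Agent.Desc19b.QDesc.Sigma
import Groth.Agent.Desc19b.QDesc.Descended
import Groth.Agent.Desc19b.QDesc.GlueOpen

/-!
# Sections of the descended module over an affine open
-/

set_option autoImplicit false
set_option backward.isDefEq.respectTransparency false
set_option backward.isDefEq.respectTransparency.types false
set_option linter.style.haveILetI false
set_option linter.unusedSectionVars false

universe u

open CategoryTheory CategoryTheory.Limits AlgebraicGeometry Opposite TopologicalSpace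
open Groth.Agent.Coherent Groth.Agent.PicLib

namespace Groth.Agent.Desc19b.QDesc

theorem tr₀_pl' {X Y Z : Scheme.{u}} (g : Y ⟶ X) (h : Z ⟶ Y) (k : Z ⟶ X) (hk : h ≫ g = k) (M : X.Modules)
    {U : X.Opens} (e : (⊤ : Y.Opens) ≤ g ⁻¹ᵁ U) (e' : (⊤ : Z.Opens) ≤ k ⁻¹ᵁ U) (m : Γ(M, U)) :
    tr₀ g h k hk M (pl g M e m) = pl k M e' m := by
  rw [tr₀_def]
  exact tr_pl g h k hk M e _ m

variable {ι : Type u} {S : Scheme.{u}} {Xf : ι → Scheme.{u}} {f : ∀ i, Xf i ⟶ S}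
  (D : Desc.modPF.{u}.DescentData f) {W : S.Opens}
  {κ : Type u} {V : κ → Scheme.{u}} {b : ∀ l, V l ⟶ W.toScheme} {a : κ → ι}
  {v : ∀ l, V l ⟶ Xf (a l)} (hv : ∀ l, v l ≫ f (a l) = b l ≫ W.ι)

theorem top_le_pre {T : Scheme.{u}} {i : ι} (x : T ⟶ Xf i) (c : T ⟶ W.toScheme) (h : x ≫ f i = c ≫ W.ι) :
    (⊤ : T.Opens) ≤ x ⁻¹ᵁ (f i ⁻¹ᵁ W) := by
  rw [← Scheme.Hom.comp_preimage, h]
  exact fun z _ => (c z).2

include hv in
/-- Members of compatible families take the values determined by their values on the covering. -/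
theorem sprop_of_isCompat {n : ∀ i, Γ(ob D i, f i ⁻¹ᵁ W)} (hn : IsCompat D W n) {T : Scheme.{u}} {i : ι}
    (x : T ⟶ Xf i) (c : T ⟶ W.toScheme) (h : x ≫ f i = c ≫ W.ι) :
    SProp D hv (fun l => ⟨pl (v l) _ (top_le_pre (v l) (b l) (hv l)) (n (a l))⟩) x c h
      (pl x _ (top_le_pre x c h) (n i)) := by
  intro l T' p p' hp
  have e₁ : (⊤ : T'.Opens) ≤ (p ≫ x) ⁻¹ᵁ (f i ⁻¹ᵁ W) :=
    top_le_pre _ (p ≫ c) (by rw [Category.assoc, Category.assoc, h])
  have e₂ : (⊤ : T'.Opens) ≤ (p' ≫ v l) ⁻¹ᵁ (f (a l) ⁻¹ᵁ W) :=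
    top_le_pre _ (p' ≫ b l) (by rw [Category.assoc, Category.assoc, hv])
  show act D (p ≫ x) (p' ≫ v l) _ (tr₀ x p (p ≫ x) rfl _ (pl x _ (top_le_pre x c h) (n i))) =
    tr₀ (v l) p' (p' ≫ v l) rfl _ (pl (v l) _ (top_le_pre (v l) (b l) (hv l)) (n (a l)))
  rw [tr₀_pl' x p (p ≫ x) rfl _ _ e₁, tr₀_pl' (v l) p' (p' ≫ v l) rfl _ _ e₂, act_eq]
  exact hn.on_points D (p ≫ x) (p' ≫ v l) (point_over hv h hp) e₁ e₂

include hv in
theorem mem_Inv_of_isCompat {n : ∀ i, Γ(ob D i, f i ⁻¹ᵁ W)} (hn : IsCompat D W n) :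
    (fun l => (⟨pl (v l) _ (top_le_pre (v l) (b l) (hv l)) (n (a l))⟩ : Obj D b v l)) ∈ Inv D hv := by
  rw [mem_Inv]
  rintro ⟨l, m⟩
  exact sprop_of_isCompat D hv hn (v l) (b l) (hv l) m (pullback.fst (b l) (b m)) (pullback.snd (b l) (b m))
    pullback.condition

/-- The values on the covering. -/
noncomputable def toInvVal (m : Γ(descended D, W)) : Inv D hv :=
  ⟨_, mem_Inv_of_isCompat D hv (isCompat_mem' D m)⟩

theorem toInvVal_apply (m : Γ(descended D, W)) (l : κ) :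
    ((toInvVal D hv m).1 l).val = pl (v l) _ (top_le_pre (v l) (b l) (hv l)) (mem' D (a l) W m) := rfl

/-- Pulling back to a point commutes with the gluing, on any open. -/
theorem tr_app_dhom {Z Z' : Scheme.{u}} {i j : ι} (g : Z' ⟶ Z) (x : Z ⟶ Xf i) (y : Z ⟶ Xf j)
    (h : x ≫ f i = y ≫ f j) (x' : Z' ⟶ Xf i) (y' : Z' ⟶ Xf j) (hx : g ≫ x = x') (hy : g ≫ y = y')
    {V : Z.Opens} {V' : Z'.Opens} (e : V' ≤ g ⁻¹ᵁ V) (s : Γ((Scheme.Modules.pullback x).obj (ob D i), V)) :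
    tr y g y' hy (ob D j) e ((dhom D x y h).app V s) =
      (dhom D x' y' (by rw [← hx, ← hy, Category.assoc, Category.assoc, h])).app V'
        (tr x g x' hx (ob D i) e s) := by
  have e' : dhom D x' y' (by rw [← hx, ← hy, Category.assoc, Category.assoc, h]) =
      mcH x g x' hx (ob D i) ≫ (Scheme.Modules.pullback g).map (dhom D x y h) ≫ mcI y g y' hy (ob D j) :=
    (dhom_eq D (x' ≫ f i) x' y' rfl (by rw [← hx, ← hy, Category.assoc, Category.assoc, h])).trans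
      (D.pullHom_hom g (x ≫ f i) (x' ≫ f i) (by rw [← hx, Category.assoc]) x y rfl h.symm x' y' hx hy).symm
  have E : mcI x g x' hx (ob D i) ≫ dhom D x' y' (by rw [← hx, ← hy, Category.assoc, Category.assoc, h]) =
      (Scheme.Modules.pullback g).map (dhom D x y h) ≫ mcI y g y' hy (ob D j) := by
    rw [e', mcI_mcH_assoc]
  rw [tr_apply, tr_apply, ← app_pl g (dhom D x y h) e s]
  exact congr(($E).app V' (pl g _ e s)).symm

/-- Families determined locally are compatible. -/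
theorem isCompat_of_act {n : ∀ i, Γ(ob D i, f i ⁻¹ᵁ W)}
    (h : ∀ {A : Scheme.{u}} [IsAffine A] {i j : ι} (x : A ⟶ Xf i) (y : A ⟶ Xf j) (c : A ⟶ W.toScheme)
      (hx : x ≫ f i = c ≫ W.ι) (hy : y ≫ f j = c ≫ W.ι),
      act D x y (hx.trans hy.symm) (pl x _ (top_le_pre x c hx) (n i)) = pl y _ (top_le_pre y c hy) (n j)) :
    IsCompat D W n := by
  rintro ⟨i, j⟩
  choose A hA hzA hle using fun z : (ovl f (i, j) ⁻¹ᵁ W : (pullback (f i) (f j)).Opens) =>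
    Opens.isBasis_iff_nbhd.1 (pullback (f i) (f j)).isBasis_affineOpens z.2
  refine TopCat.Sheaf.eq_of_locally_eq'
    (⟨((Scheme.Modules.pullback (pullback.snd (f i) (f j))).obj (ob D j)).presheaf,
      ((Scheme.Modules.pullback (pullback.snd (f i) (f j))).obj (ob D j)).isSheaf⟩ :
      TopCat.Sheaf Ab ((pullback (f i) (f j) : Scheme.{u}) : Scheme.{u})) A (ovl f (i, j) ⁻¹ᵁ W)
    (fun z => homOfLE (hle z)) (fun z hz => Opens.mem_iSup.2 ⟨⟨z, hz⟩, hzA _⟩) _ _ fun z => ?_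
  let Az : (pullback (f i) (f j)).Opens := A z
  haveI : IsAffine Az.toScheme := hA z
  let x := Az.ι ≫ pullback.fst (f i) (f j)
  let y := Az.ι ≫ pullback.snd (f i) (f j)
  let c : Az.toScheme ⟶ W.toScheme := (ovl f (i, j)).resLE W Az (hle z)
  have hx : x ≫ f i = c ≫ W.ι := by
    show _ = (ovl f (i, j)).resLE W Az (hle z) ≫ W.ι
    rw [Scheme.Hom.resLE_comp_ι, Category.assoc]
  have hy : y ≫ f j = c ≫ W.ι := by
    rw [← hx]
    show (_ ≫ _) ≫ _ = (_ ≫ _) ≫ _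
    rw [Category.assoc, Category.assoc, pullback.condition]
  have hb := bijective_tr_openImm (ob D j) (pullback.snd (f i) (f j)) Az.ι y rfl Az.opensRange_ι.symm
    Az.ι_preimage_self.ge
  refine hb.1 ?_
  show tr _ Az.ι y rfl _ _ (resM _ (hle z) _) = tr _ Az.ι y rfl _ _ (resM _ (hle z) _)
  rw [tr_resM, tr_resM, tr_app_dhom D Az.ι _ _ pullback.condition x y rfl rfl, tr_pl, tr_pl, ← act_eq]
  exact h x y c hx hy

variable [IsAffine W.toScheme] [Finite κ] [∀ l, IsAffine (V l)] [∀ l, Flat (b l)] [∀ i, Coh.IsQCoh (ob D i)]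
  (hb : ∀ z : W.toScheme, ∃ l y, b l y = z)

include hb in
theorem injective_toInvVal : Function.Injective (toInvVal D hv) := by
  intro m m' hmm'
  refine mem'_ext D fun i => ?_
  choose Z hZ hzZ hle using fun z : (f i ⁻¹ᵁ W : (Xf i).Opens) =>
    Opens.isBasis_iff_nbhd.1 (Xf i).isBasis_affineOpens z.2
  refine TopCat.Sheaf.eq_of_locally_eq' (⟨(ob D i).presheaf, (ob D i).isSheaf⟩ : TopCat.Sheaf Ab (Xf i)) Z
    (f i ⁻¹ᵁ W) (fun z => homOfLE (hle z)) (fun z hz => Opens.mem_iSup.2 ⟨⟨z, hz⟩, hzZ _⟩) _ _ fun z => ?_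
  let Zz : (Xf i).Opens := Z z
  haveI : IsAffine Zz.toScheme := hZ z
  have hc : Zz.ι ≫ f i = (f i).resLE W Zz (hle z) ≫ W.ι := (Scheme.Hom.resLE_comp_ι _ _).symm
  refine (bijective_pl_of_opensRange Zz.ι (ob D i) Zz.opensRange_ι.symm Zz.ι_preimage_self.ge).1 ?_
  show pl _ _ _ (resM _ (hle z) _) = pl _ _ _ (resM _ (hle z) _)
  rw [pl_resM, pl_resM]
  refine (existsUnique_sprop D hv hb (toInvVal D hv m).2 Zz.ι _ hc).unique
    (sprop_of_isCompat D hv (isCompat_mem' D m) Zz.ι _ hc) ?_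
  rw [hmm']
  exact sprop_of_isCompat D hv (isCompat_mem' D m') Zz.ι _ hc

include hb in
theorem surjective_toInvVal : Function.Surjective (toInvVal D hv) := by
  rintro ⟨n, hn⟩
  have hex : ∀ i, ∃ ni : Γ(ob D i, f i ⁻¹ᵁ W), ∀ {T : Scheme.{u}} [IsAffine T] (x : T ⟶ Xf i)
      (c : T ⟶ W.toScheme) (h : x ≫ f i = c ≫ W.ι), SProp D hv n x c h (pl x _ (top_le_pre x c h) ni) := by
    intro i
    let 𝒵 := {Z : (Xf i).affineOpens // Z.1 ≤ f i ⁻¹ᵁ W}
    have hc : ∀ Z : 𝒵, Z.1.1.ι ≫ f i = (f i).resLE W Z.1.1 Z.2 ≫ W.ι :=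
      fun Z => (Scheme.Hom.resLE_comp_ι _ _).symm
    have hσex : ∀ Z : 𝒵, ∃! σ, SProp D hv n Z.1.1.ι _ (hc Z) σ := fun Z => by
      haveI : IsAffine Z.1.1.toScheme := Z.1.2
      exact existsUnique_sprop D hv hb hn _ _ _
    choose σ hσ hσu using hσex
    have hbij : ∀ Z : 𝒵, Function.Bijective (pl Z.1.1.ι (ob D i) Z.1.1.ι_preimage_self.ge) := fun Z =>
      bijective_pl_of_opensRange Z.1.1.ι _ Z.1.1.opensRange_ι.symm _
    choose sec hsec using fun Z => (hbij Z).2 (σ Z)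
    have hres : ∀ (Z U : 𝒵) (h : U.1.1 ≤ Z.1.1),
        pl U.1.1.ι (ob D i) U.1.1.ι_preimage_self.ge (resM _ h (sec Z)) = σ U := by
      intro Z U h
      refine hσu U _ ?_
      rw [pl_resM, ← tr₀_pl' Z.1.1.ι ((Xf i).homOfLE h) U.1.1.ι (Scheme.homOfLE_ι _ _) _ Z.1.1.ι_preimage_self.ge,
        hsec Z]
      exact (hσ Z).comp D hv _ _ _ (Scheme.homOfLE_ι _ _) ((cancel_mono W.ι).1 (by
        rw [Category.assoc, ← hc Z, ← hc U, ← Category.assoc, Scheme.homOfLE_ι]))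
    have hcov : f i ⁻¹ᵁ W ≤ ⨆ Z : 𝒵, Z.1.1 := fun z hz => by
      obtain ⟨U, hU, hzU, hle⟩ := Opens.isBasis_iff_nbhd.1 (Xf i).isBasis_affineOpens hz
      exact Opens.mem_iSup.2 ⟨⟨⟨U, hU⟩, hle⟩, hzU⟩
    obtain ⟨ni, hni, -⟩ := TopCat.Sheaf.existsUnique_gluing'
      (⟨(ob D i).presheaf, (ob D i).isSheaf⟩ : TopCat.Sheaf Ab (Xf i)) (fun Z : 𝒵 => Z.1.1) (f i ⁻¹ᵁ W)
      (fun Z => homOfLE Z.2) hcov sec (fun Z Z' => by
        choose U' hU' hzU' hU'le using fun z : (Z.1.1 ⊓ Z'.1.1 : (Xf i).Opens) =>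
          Opens.isBasis_iff_nbhd.1 (Xf i).isBasis_affineOpens z.2
        refine TopCat.Sheaf.eq_of_locally_eq' (⟨(ob D i).presheaf, (ob D i).isSheaf⟩ : TopCat.Sheaf Ab (Xf i)) U'
          (Z.1.1 ⊓ Z'.1.1) (fun z => homOfLE (hU'le z)) (fun z hz => Opens.mem_iSup.2 ⟨⟨z, hz⟩, hzU' _⟩) _ _
          fun z => ?_
        show resM _ (hU'le z) (resM _ inf_le_left (sec Z)) = resM _ (hU'le z) (resM _ inf_le_right (sec Z'))
        rw [resM_resM, resM_resM]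
        let U₀ : 𝒵 := ⟨⟨U' z, hU' z⟩, ((hU'le z).trans inf_le_left).trans Z.2⟩
        exact (hbij U₀).1 ((hres Z U₀ _).trans (hres Z' U₀ _).symm))
    refine ⟨ni, fun {T} _ x c h => ?_⟩
    obtain ⟨τ, hτ, -⟩ := existsUnique_sprop D hv hb hn x c h
    suffices e : pl x _ (top_le_pre x c h) ni = τ by rw [e]; exact hτ
    refine eq_of_local (ob D i) x _ _ fun z => ?_
    obtain ⟨U, hU, hxU, hUle⟩ := Opens.isBasis_iff_nbhd.1 (Xf i).isBasis_affineOpens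
      (show x z ∈ f i ⁻¹ᵁ W from top_le_pre x c h (Opens.mem_top z))
    let Z : 𝒵 := ⟨⟨U, hU⟩, hUle⟩
    obtain ⟨A, hA, hzA, hAle⟩ := Opens.isBasis_iff_nbhd.1 T.isBasis_affineOpens (show z ∈ x ⁻¹ᵁ Z.1.1 from hxU)
    let Az : T.Opens := A
    haveI : IsAffine Az.toScheme := hA
    refine ⟨Az, hzA, ?_⟩
    let r := x.resLE Z.1.1 Az hAle
    have hr : r ≫ Z.1.1.ι = Az.ι ≫ x := Scheme.Hom.resLE_comp_ι _ _
    rw [tr₀_pl' x Az.ι (Az.ι ≫ x) rfl _ _ (top_le_pre (Az.ι ≫ x) (Az.ι ≫ c) (by rw [Category.assoc, h, Category.assoc])),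
      ← tr₀_pl' Z.1.1.ι r (Az.ι ≫ x) hr _ (top_le_pre Z.1.1.ι _ (hc Z))]
    refine (existsUnique_sprop D hv hb hn (Az.ι ≫ x) (Az.ι ≫ c) (by rw [Category.assoc, h, Category.assoc])).unique ?_
      (hτ.comp D hv _ _ _ rfl rfl)
    have e : pl Z.1.1.ι (ob D i) (top_le_pre Z.1.1.ι _ (hc Z)) ni = σ Z := by
      rw [← hsec Z, ← (show resM _ Z.2 ni = sec Z from hni Z), pl_resM]
    rw [e]
    exact (hσ Z).comp D hv _ _ _ hr ((cancel_mono W.ι).1 (by
      rw [Category.assoc, Category.assoc, ← hc Z, ← Category.assoc, hr, Category.assoc, h]))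
  choose ni hni using hex
  have hcompat : IsCompat D W ni := isCompat_of_act D fun {A} _ {i j} x y c hx hy =>
    (existsUnique_sprop D hv hb hn y c hy).unique ((hni i x c hx).act D hv y hy) (hni j y c hy)
  obtain ⟨m, hm⟩ := exists_of_isCompat D ni hcompat
  refine ⟨m, Subtype.ext (funext fun l => Sec.ext ?_)⟩
  rw [toInvVal_apply, hm]
  exact (existsUnique_sprop D hv hb hn (v l) (b l) (hv l)).unique (hni (a l) (v l) (b l) (hv l))
    (sprop_self D hv hn l)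

end Groth.Agent.Desc19b.QDesc
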