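import Groth.Agent.Desc19b.QDesc.BC

/-!
# Descent of modules along a finite flat family of affine schemes, on global sections

For a finite family `b l : V l ⟶ W` of flat maps of affine schemes and points `v l : V l ⟶ X (a l)`, the
invariant families of sections `Inv` satisfy `Γ(V l) ⊗_{Γ(W)} Inv ≅ Γ(v_l^* D)`.
-/

set_option autoImplicit false
set_option backward.isDefEq.respectTransparency false
set_option backward.isDefEq.respectTransparency.types false
set_option linter.style.haveILetI false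
set_option linter.unusedSectionVars false

universe u

open CategoryTheory CategoryTheory.Limits AlgebraicGeometry Opposite TopologicalSpace TensorProduct
open Groth.Agent.Coherent Groth.Agent.PicLib

namespace Groth.Agent.Desc19b.QDesc

section generic

variable {W T₁ T₂ Q : Scheme.{u}} {t₁ : T₁ ⟶ W} {t₂ : T₂ ⟶ W} {M₁ : T₁.Modules} {M₂ : T₂.Modules}
  {N₁ N : Q.Modules} (α : Γ(M₁, ⊤) →+ Γ(N₁, ⊤)) (γ : Γ(N₁, ⊤) →+ Γ(N, ⊤)) (β : Γ(M₂, ⊤) →+ Γ(N, ⊤))

/- The next lemmas are stated for arbitrary modules, so that the kernel only has to match, and never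
compute, the group structures on sections of pullbacks. -/

theorem sub_val_zero : γ (α (0 : Sec t₁ M₁).val) - β (0 : Sec t₂ M₂).val = 0 := by
  rw [Sec.val_zero, Sec.val_zero, map_zero, map_zero, map_zero, sub_zero]

theorem sub_val_add (x x' : Sec t₁ M₁) (y y' : Sec t₂ M₂) :
    γ (α (x + x').val) - β (y + y').val = (γ (α x.val) - β y.val) + (γ (α x'.val) - β y'.val) := by
  rw [Sec.val_add, Sec.val_add, map_add, map_add, map_add]
  abel

end generic

variable {W : Scheme.{u}}
variable {ι : Type u} {S : Scheme.{u}} {Xf : ι → Scheme.{u}} {f : ∀ i, Xf i ⟶ S}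
  (D : Desc.modPF.{u}.DescentData f)
  {κ : Type u} {V : κ → Scheme.{u}} {b : ∀ l, V l ⟶ W} {w : W ⟶ S} {a : κ → ι}
  {v : ∀ l, V l ⟶ Xf (a l)} (hv : ∀ l, v l ≫ f (a l) = b l ≫ w)

/-- Sections of the descent datum over the members of the family. -/
abbrev Obj (b : ∀ l, V l ⟶ W) (v : ∀ l, V l ⟶ Xf (a l)) (l : κ) : Type u :=
  Sec (b l) ((Scheme.Modules.pullback (v l)).obj (ob D (a l)))

/-- Sections of the descent datum over the double overlaps. -/
abbrev Pair (b : ∀ l, V l ⟶ W) (v : ∀ l, V l ⟶ Xf (a l)) (l m : κ) : Type u :=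
  Sec (pullback.fst (b l) (b m) ≫ b l)
    ((Scheme.Modules.pullback (pullback.snd (b l) (b m) ≫ v m)).obj (ob D (a m)))

include hv in
theorem over_eq (l m : κ) : (pullback.fst (b l) (b m) ≫ v l) ≫ f (a l) =
    (pullback.snd (b l) (b m) ≫ v m) ≫ f (a m) := by
  rw [Category.assoc, Category.assoc, hv, hv, ← Category.assoc, pullback.condition, Category.assoc]

/-- The first member of a pair, glued to the second. -/
noncomputable def left' (l m : κ) : Obj D b v l →ₗ[Γ(W, ⊤)] Pair D b v l m where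
  toFun n := ⟨act D (pullback.fst (b l) (b m) ≫ v l) (pullback.snd (b l) (b m) ≫ v m)
    (over_eq hv l m) (tr₀ (v l) (pullback.fst (b l) (b m)) _ rfl _ n.val)⟩
  map_add' n n' := Sec.ext (by simp only [Sec.val_add, map_add])
  map_smul' r n := Sec.ext (by
    simp only [Sec.val_smul, RingHom.id_apply]
    rw [tr₀_smul, act_smul]
    all_goals rfl)

/-- The second member of a pair. -/
noncomputable def right' (l m : κ) : Obj D b v m →ₗ[Γ(W, ⊤)] Pair D b v l m where
  toFun n := ⟨tr₀ (v m) (pullback.snd (b l) (b m)) (pullback.snd (b l) (b m) ≫ v m) rfl _ n.val⟩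
  map_add' n n' := Sec.ext (by simp only [Sec.val_add, map_add])
  map_smul' r n := Sec.ext (by
    simp only [Sec.val_smul, RingHom.id_apply]
    rw [tr₀_smul, snd_appTop (b l) (b m) r rfl]
    all_goals rfl)

theorem left'_val (l m : κ) (n : Obj D b v l) :
    (left' D hv l m n).val = act D (pullback.fst (b l) (b m) ≫ v l) (pullback.snd (b l) (b m) ≫ v m)
      (over_eq hv l m) (tr₀ (v l) (pullback.fst (b l) (b m)) _ rfl _ n.val) := rfl

theorem right'_val (l m : κ) (n : Obj D b v m) :
    (right' D l m n).val =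
      tr₀ (v m) (pullback.snd (b l) (b m)) (pullback.snd (b l) (b m) ≫ v m) rfl _ n.val := rfl

/-- The two maps whose difference cuts out the invariant families. -/
noncomputable def diff' : (∀ l, Obj D b v l) →ₗ[Γ(W, ⊤)] ∀ p : κ × κ, Pair D b v p.1 p.2 :=
  LinearMap.pi fun p => (left' D hv p.1 p.2).comp (LinearMap.proj p.1) - (right' D p.1 p.2).comp (LinearMap.proj p.2)

theorem diff'_apply (n : ∀ l, Obj D b v l) (p : κ × κ) :
    diff' D hv n p = left' D hv p.1 p.2 (n p.1) - right' D p.1 p.2 (n p.2) := rfl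

/-- Compatible families of sections. -/
noncomputable def Inv : Submodule Γ(W, ⊤) (∀ l, Obj D b v l) := LinearMap.ker (diff' D hv)

theorem mem_Inv {n : ∀ l, Obj D b v l} : n ∈ Inv D hv ↔ ∀ p : κ × κ,
    act D (pullback.fst (b p.1) (b p.2) ≫ v p.1) (pullback.snd (b p.1) (b p.2) ≫ v p.2) (over_eq hv p.1 p.2)
      (tr₀ (v p.1) (pullback.fst (b p.1) (b p.2)) _ rfl _ (n p.1).val) =
    tr₀ (v p.2) (pullback.snd (b p.1) (b p.2)) _ rfl _ (n p.2).val := by
  rw [Inv, LinearMap.mem_ker, funext_iff]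
  refine forall_congr' fun p => ?_
  rw [diff'_apply, Pi.zero_apply, sub_eq_zero, Sec.ext_iff, left'_val, right'_val]

/-- `s ⊗ n ↦ s • n_l`. -/
noncomputable def mulInv (l : κ) : Fn (b l) ⊗[Γ(W, ⊤)] Inv D hv →ₗ[Γ(W, ⊤)] Obj D b v l :=
  TensorProduct.lift ((LinearMap.lsmul (Fn (b l)) (Obj D b v l)).restrictScalars₁₂ Γ(W, ⊤) Γ(W, ⊤) |>.compl₂
    ((LinearMap.proj l).comp (Inv D hv).subtype))

theorem mulInv_tmul (l : κ) (s : Fn (b l)) (n : Inv D hv) :
    mulInv D hv l (s ⊗ₜ n) = s • n.1 l := rfl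

/-- `s ⊗ n ↦ (s • n_m)_m` on the overlaps with the member `l`. -/
noncomputable def phi (l : κ) :
    Fn (b l) ⊗[Γ(W, ⊤)] (∀ m, Obj D b v m) →ₗ[Γ(W, ⊤)] ∀ m, Pair D b v l m :=
  LinearMap.pi fun m => (bcMul (b l) (b m) (v m) (ob D (a m)) rfl _ rfl).comp
    (LinearMap.lTensor (Fn (b l)) (LinearMap.proj m))

theorem phi_tmul (l : κ) (s : Fn (b l)) (n : ∀ m, Obj D b v m) (m : κ) :
    (phi D l (s ⊗ₜ n) m).val = (pullback.fst (b l) (b m)).appTop (show Γ(V l, ⊤) from s) •
      tr₀ (v m) (pullback.snd (b l) (b m)) (pullback.snd (b l) (b m) ≫ v m) rfl _ (n m).val :=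
  bcMul_tmul (b l) (b m) (v m) (ob D (a m)) rfl _ rfl s (n m)

section triple

variable (l : κ) (p : κ × κ)

/-- The triple overlap, mapped to the double ones. -/
noncomputable abbrev tripleM : pullback (b l) (pullback.fst (b p.1) (b p.2) ≫ b p.1) ⟶ pullback (b l) (b p.1) :=
  pullback.lift (pullback.fst _ _) (pullback.snd _ _ ≫ pullback.fst (b p.1) (b p.2))
    (pullback.condition.trans (Category.assoc _ _ _).symm)

/-- The triple overlap, mapped to the double ones. -/
noncomputable abbrev tripleK : pullback (b l) (pullback.fst (b p.1) (b p.2) ≫ b p.1) ⟶ pullback (b l) (b p.2) :=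
  pullback.lift (pullback.fst _ _) (pullback.snd _ _ ≫ pullback.snd (b p.1) (b p.2))
    (by rw [pullback.condition, Category.assoc, pullback.condition])

/-- The point of the middle index on the triple overlap. -/
noncomputable abbrev ptM : pullback (b l) (pullback.fst (b p.1) (b p.2) ≫ b p.1) ⟶ Xf (a p.1) :=
  (pullback.snd _ _ ≫ pullback.fst (b p.1) (b p.2)) ≫ v p.1

/-- The point of the last index on the triple overlap. -/
noncomputable abbrev ptK : pullback (b l) (pullback.fst (b p.1) (b p.2) ≫ b p.1) ⟶ Xf (a p.2) :=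
  pullback.snd _ _ ≫ pullback.snd (b p.1) (b p.2) ≫ v p.2

theorem tripleM_pt : tripleM (b := b) l p ≫ pullback.snd (b l) (b p.1) ≫ v p.1 = ptM (v := v) l p := by
  rw [← Category.assoc, pullback.lift_snd]

theorem tripleK_pt : tripleK (b := b) l p ≫ pullback.snd (b l) (b p.2) ≫ v p.2 = ptK (v := v) l p := by
  rw [← Category.assoc, pullback.lift_snd, Category.assoc]

include hv in
theorem pt_over : ptM (b := b) (v := v) l p ≫ f (a p.1) = ptK (b := b) (v := v) l p ≫ f (a p.2) := by
  simp only [Category.assoc, hv]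
  rw [pullback.condition_assoc]

/-- The difference map on the triple overlap. -/
noncomputable def tripleDiff (G : ∀ m', Pair D b v l m') :
    Γ((Scheme.Modules.pullback (ptK (b := b) (v := v) l p)).obj (ob D (a p.2)), ⊤) :=
  act D (ptM l p) (ptK l p) (pt_over hv l p)
    (tr₀ (pullback.snd (b l) (b p.1) ≫ v p.1) (tripleM l p) (ptM l p) (tripleM_pt l p) (ob D (a p.1)) (G p.1).val) -
  tr₀ (pullback.snd (b l) (b p.2) ≫ v p.2) (tripleK l p) (ptK l p) (tripleK_pt l p) (ob D (a p.2)) (G p.2).val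

theorem tripleDiff_zero : tripleDiff D hv l p 0 = 0 := by
  unfold tripleDiff
  rw [Pi.zero_apply, Pi.zero_apply]
  exact sub_val_zero _ _ _

theorem tripleDiff_add (G G' : ∀ m', Pair D b v l m') :
    tripleDiff D hv l p (G + G') = tripleDiff D hv l p G + tripleDiff D hv l p G' := by
  unfold tripleDiff
  rw [Pi.add_apply, Pi.add_apply]
  exact sub_val_add _ _ _ _ _ _ _

theorem bcMul_diff [Fintype κ] [DecidableEq κ] (y : Fn (b l) ⊗[Γ(W, ⊤)] (∀ m', Obj D b v m')) :
    (bcMul (b l) (pullback.fst (b p.1) (b p.2) ≫ b p.1) (pullback.snd (b p.1) (b p.2) ≫ v p.2) (ob D (a p.2)) rfl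
        (ptK (v := v) l p) rfl
        (piRight Γ(W, ⊤) Γ(W, ⊤) (Fn (b l)) (fun p : κ × κ => Pair D b v p.1 p.2)
          (LinearMap.lTensor (Fn (b l)) (diff' D hv) y) p)).val =
      tripleDiff D hv l p (phi D l y) := by
  induction y using TensorProduct.induction_on with
  | zero =>
    simp only [map_zero, Pi.zero_apply, tripleDiff_zero, Sec.val_zero]
  | add u u' hu hu' =>
    simp only [map_add, Pi.add_apply, tripleDiff_add, Sec.val_add]
    exact congrArg₂ (· + ·) hu hu'
  | tmul s n' =>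
    rw [LinearMap.lTensor_tmul, piRight_apply, piRightHom_tmul, bcMul_tmul, tripleDiff, phi_tmul, phi_tmul,
      diff'_apply, Sec.val_sub, left'_val, right'_val]
    rw [map_sub, smul_sub, tr₀_smul, tr₀_smul, act_smul,
      act_tr D _ _ (over_eq hv p.1 p.2) (pullback.snd (b l) (pullback.fst (b p.1) (b p.2) ≫ b p.1)) (ptM l p) (ptK l p) (Category.assoc _ _ _).symm rfl, tr₀_tr₀, tr₀_tr₀,
      tr₀_tr₀, tr₀_tr₀]
    have e1 : (tripleM (b := b) l p).appTop ((pullback.fst (b l) (b p.1)).appTop (show Γ(V l, ⊤) from s)) =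
        (pullback.fst (b l) (pullback.fst (b p.1) (b p.2) ≫ b p.1)).appTop (show Γ(V l, ⊤) from s) := by
      rw [← CategoryTheory.comp_apply, ← Scheme.Hom.comp_appTop, pullback.lift_fst]
    have e2 : (tripleK (b := b) l p).appTop ((pullback.fst (b l) (b p.2)).appTop (show Γ(V l, ⊤) from s)) =
        (pullback.fst (b l) (pullback.fst (b p.1) (b p.2) ≫ b p.1)).appTop (show Γ(V l, ⊤) from s) := by
      rw [← CategoryTheory.comp_apply, ← Scheme.Hom.comp_appTop, pullback.lift_fst]
    rw [e1, e2, tr₀_congr (v p.1) (pullback.lift_snd _ _ _) (ptM l p),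
      tr₀_congr (v p.2) (pullback.lift_snd _ _ _) (ptK l p)]

theorem tripleDiff_left (n : Obj D b v l) :
    tripleDiff D hv l p (fun m' => left' D hv l m' n) = 0 := by
  rw [tripleDiff, left'_val, left'_val]
  refine sub_eq_zero.2 ?_
  rw [act_tr D _ _ (over_eq hv l p.1) (tripleM l p) (pullback.fst _ _ ≫ v l) (ptM l p)
      (by rw [← Category.assoc, pullback.lift_fst]) (tripleM_pt l p),
    act_tr D _ _ (over_eq hv l p.2) (tripleK l p) (pullback.fst _ _ ≫ v l) (ptK l p)
      (by rw [← Category.assoc, pullback.lift_fst]) (tripleK_pt l p),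
    act_act, tr₀_tr₀, tr₀_tr₀,
    tr₀_congr (v l) (pullback.lift_fst (f := b l) (g := b p.1) _ _ _) (pullback.fst _ _ ≫ v l),
    tr₀_congr (v l) (pullback.lift_fst (f := b l) (g := b p.2) _ _ _) (pullback.fst _ _ ≫ v l)]

end triple

theorem phi_lTensor_subtype (l : κ) (z₀ : Fn (b l) ⊗[Γ(W, ⊤)] Inv D hv) :
    phi D l (LinearMap.lTensor (Fn (b l)) (Inv D hv).subtype z₀) =
      fun m => left' D hv l m (mulInv D hv l z₀) := by
  funext m
  induction z₀ using TensorProduct.induction_on with
  | zero => simp only [map_zero, Pi.zero_apply]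
  | add u u' hu hu' =>
    simp only [map_add, Pi.add_apply, hu, hu']
  | tmul s i =>
    apply Sec.ext
    rw [LinearMap.lTensor_tmul, phi_tmul, mulInv_tmul, left'_val, Sec.val_fn_smul, tr₀_smul, act_smul]
    exact congrArg _ ((mem_Inv D hv).1 i.2 (l, m)).symm

theorem diag_left (l : κ) (n : Obj D b v l) :
    tr₀ (pullback.snd (b l) (b l) ≫ v l) (pullback.lift (𝟙 (V l)) (𝟙 (V l)) rfl) (v l)
      (by rw [← Category.assoc, pullback.lift_snd, Category.id_comp]) _ (left' D hv l l n).val = n.val := by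
  rw [left'_val, act_tr D _ _ (over_eq hv l l) (pullback.lift (𝟙 _) (𝟙 _) rfl) (v l) (v l)
      (by rw [← Category.assoc, pullback.lift_fst, Category.id_comp])
      (by rw [← Category.assoc, pullback.lift_snd, Category.id_comp]),
    act_self, tr₀_tr₀, tr₀_congr (v l) (pullback.lift_fst (f := b l) (g := b l) _ _ _) (v l), tr₀_id]

variable [IsAffine W] [∀ l, IsAffine (V l)] [Finite κ] [∀ l, Flat (b l)] [∀ i, Coh.IsQCoh (ob D i)]

theorem bijective_phi (l : κ) : Function.Bijective (phi D (b := b) (v := v) l) := by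
  classical
  cases nonempty_fintype κ
  have : ⇑(phi D (b := b) (v := v) l) = (fun y m => bcMul (b l) (b m) (v m) (ob D (a m)) rfl _ rfl (y m)) ∘
      ⇑(piRight Γ(W, ⊤) Γ(W, ⊤) (Fn (b l)) (Obj D b v)) :=
    funext fun z => funext fun m => by
      induction z using TensorProduct.induction_on with
      | zero => simp only [Function.comp_apply, map_zero, Pi.zero_apply]
      | add u u' hu hu' =>
        simp only [Function.comp_apply, map_add, Pi.add_apply] at hu hu' ⊢
        rw [hu, hu']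
      | tmul s n => rfl
  rw [this]
  exact (Function.Bijective.piMap fun m => bijective_bcMul (b l) (b m) (v m) (ob D (a m)) rfl _ rfl).comp
    (LinearEquiv.bijective _)

/-- Effectivity on global sections. -/
theorem bijective_mulInv (l : κ) : Function.Bijective (mulInv D hv l) := by
  classical
  cases nonempty_fintype κ
  haveI : Module.Flat Γ(W, ⊤) (Fn (b l)) := (b l).flat_appTop
  have hex := Module.Flat.lTensor_exact (Fn (b l)) (LinearMap.exact_subtype_ker_map (diff' D hv))
  have hinj : Function.Injective (LinearMap.lTensor (Fn (b l)) (Inv D hv).subtype) :=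
    Module.Flat.lTensor_preserves_injective_linearMap _ (Submodule.subtype_injective _)
  refine ⟨fun z₁ z₂ h => hinj ((bijective_phi D l).1 (by rw [phi_lTensor_subtype, phi_lTensor_subtype, h])),
    fun n => ?_⟩
  obtain ⟨z, hz⟩ := (bijective_phi D l).2 (fun m => left' D hv l m n)
  have hz0 : LinearMap.lTensor (Fn (b l)) (diff' D hv) z = 0 := by
    refine (piRight Γ(W, ⊤) Γ(W, ⊤) (Fn (b l)) (fun p : κ × κ => Pair D b v p.1 p.2)).injective (funext fun p => ?_)
    refine (bijective_bcMul (b l) (pullback.fst (b p.1) (b p.2) ≫ b p.1) (pullback.snd (b p.1) (b p.2) ≫ v p.2)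
      (ob D (a p.2)) rfl (ptK (v := v) l p) rfl).1 (Sec.ext ?_)
    rw [bcMul_diff D hv l p z, hz, tripleDiff_left, map_zero, Pi.zero_apply, map_zero, Sec.val_zero]
  obtain ⟨z₀, rfl⟩ := (hex z).1 hz0
  refine ⟨z₀, Sec.ext ?_⟩
  rw [← diag_left D hv l (mulInv D hv l z₀), ← diag_left D hv l n]
  exact congrArg (fun x : Pair D b v l l => tr₀ _ (pullback.lift (𝟙 (V l)) (𝟙 (V l)) rfl) (v l)
    (by rw [← Category.assoc, pullback.lift_snd, Category.id_comp]) (ob D (a l)) x.val)
    (congrFun ((phi_lTensor_subtype D hv l z₀).symm.trans hz) l)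

end Groth.Agent.Desc19b.QDesc
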