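import Groth.Agent.Desc19b.QDesc.Chart
import Groth.Agent.Desc19b.QDesc.Affine
import Groth.Agent.Coherent.QcohLocal

/-!
# Effectivity of fpqc descent for quasi-coherent modules
-/

set_option autoImplicit false
set_option backward.isDefEq.respectTransparency false
set_option backward.isDefEq.respectTransparency.types false
set_option linter.style.haveILetI false
set_option linter.unusedSectionVars false

universe u

open CategoryTheory CategoryTheory.Limits AlgebraicGeometry Opposite TopologicalSpace TensorProduct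
open Groth.Agent.Coherent Groth.Agent.PicLib

namespace Groth.Agent.Desc19b.QDesc

/-- Restricting a pulled back function. -/
theorem scalar_res {T X : Scheme.{u}} (g : T ⟶ X) {U U' : X.Opens} {V B : T.Opens} (h : U' ≤ U) (eB : B ≤ g ⁻¹ᵁ U')
    (hBV : B ≤ V) (e : V ≤ g ⁻¹ᵁ U) (r : Γ(X, U)) :
    T.presheaf.map (homOfLE eB).op (g.app U' (X.presheaf.map (homOfLE h).op r)) =
      T.presheaf.map (homOfLE hBV).op (g.appLE U V e r) := by
  rw [← CommRingCat.comp_apply, ← CommRingCat.comp_apply, ← CommRingCat.comp_apply, Scheme.Hom.app_eq_appLE,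
    Scheme.Hom.map_appLE_assoc, Scheme.Hom.appLE_map, Scheme.Hom.appLE_map]

/-- A function on an open, seen on a point over it. -/
theorem scalar_point {T Y X : Scheme.{u}} (g : Y ⟶ X) (x : T ⟶ Y) {U : X.Opens} (c : T ⟶ U.toScheme)
    (hc : x ≫ g = c ≫ U.ι) {V : Y.Opens} (eV : V ≤ g ⁻¹ᵁ U) (e : (⊤ : T.Opens) ≤ x ⁻¹ᵁ V) (r : Γ(X, U)) :
    c.appTop (U.ι.appLE U ⊤ U.ι_preimage_self.ge r) = x.appLE V ⊤ e (g.appLE U V eV r) := by
  rw [← CommRingCat.comp_apply, ← CommRingCat.comp_apply, show c.appTop = c.appLE ⊤ ⊤ (top_le c) from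
    Scheme.Hom.app_eq_appLE _, Scheme.Hom.appLE_comp_appLE, Scheme.Hom.appLE_comp_appLE]
  simp only [hc]

theorem top_le_comp_ι {T Y : Scheme.{u}} {V : Y.Opens} (g : T ⟶ V.toScheme) :
    (⊤ : T.Opens) ≤ (g ≫ V.ι) ⁻¹ᵁ V := fun z _ => (g z).2

variable {ι : Type u} {S : Scheme.{u}} {Xf : ι → Scheme.{u}} {f : ∀ i, Xf i ⟶ S}
  (D : Desc.modPF.{u}.DescentData f) {W : S.Opens} (R : Refin f W)

/-- The members of a refinement, over the open. -/
noncomputable abbrev refb (l : R.κ) : (R.V l).toScheme ⟶ W.toScheme :=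
  (f (R.a l)).resLE W (R.V l) (R.e l)

theorem refb_over (l : R.κ) : (R.V l).ι ≫ f (R.a l) = refb R l ≫ W.ι := (Scheme.Hom.resLE_comp_ι _ _).symm

theorem refb_surj (z : W.toScheme) : ∃ l y, refb R l y = z := by
  obtain ⟨l, x, hx, hz⟩ := R.surj z.1 z.2
  exact ⟨l, ⟨x, hx⟩, W.ι.isOpenEmbedding.injective ((congr($(refb_over R l) ⟨x, hx⟩)).symm.trans hz)⟩

variable [∀ i, Coh.IsQCoh (ob D i)] (hf : Cov f) (hW : IsAffineOpen W)

include hf hW in
/-- Sections of the descended module are determined on a refinement. -/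
theorem refin_ext {m m' : Γ(descended D, W)}
    (h : ∀ l, resM _ (R.e l) (mem' D (R.a l) W m) = resM _ (R.e l) (mem' D (R.a l) W m')) : m = m' := by
  haveI := R.fin
  haveI : IsAffine W.toScheme := hW
  haveI : ∀ l, IsAffine (R.V l).toScheme := R.hV
  haveI : ∀ l, Flat (refb R l) := fun l => by haveI := hf.flat (R.a l); infer_instance
  refine injective_toInvVal D (refb_over R) (refb_surj R) (Subtype.ext (funext fun l => Sec.ext ?_))
  rw [toInvVal_apply, toInvVal_apply]
  exact ((pl_resM (R.V l).ι (ob D (R.a l)) (R.e l) (R.V l).ι_preimage_self.ge _).symm.trans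
    (congrArg (pl (R.V l).ι (ob D (R.a l)) (R.V l).ι_preimage_self.ge) (h l))).trans
    (pl_resM (R.V l).ι (ob D (R.a l)) (R.e l) (R.V l).ι_preimage_self.ge _)

include hf hW in
theorem refin_surj {n : ∀ l, Obj D (refb R) (fun l => (R.V l).ι) l} (hn : n ∈ Inv D (refb_over R)) :
    ∃ m : Γ(descended D, W), ∀ l,
      pl (R.V l).ι _ (top_le_pre _ _ (refb_over R l)) (mem' D (R.a l) W m) = (n l).val := by
  haveI := R.fin
  haveI : IsAffine W.toScheme := hW
  haveI : ∀ l, IsAffine (R.V l).toScheme := R.hV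
  haveI : ∀ l, Flat (refb R l) := fun l => by haveI := hf.flat (R.a l); infer_instance
  obtain ⟨m, hm⟩ := surjective_toInvVal D (refb_over R) (refb_surj R) ⟨n, hn⟩
  exact ⟨m, fun l => congrArg (fun x : Inv D (refb_over R) => (x.1 l).val) hm⟩

include hf in
theorem isQCoh_descended : Coh.IsQCoh (descended D) := by
  refine (isQCoh_iff_localizesOn _).2 fun W hW => ?_
  obtain ⟨R⟩ := hf.refin W hW
  haveI := R.fin
  cases nonempty_fintype R.κ
  haveI : IsAffine W.toScheme := hW
  haveI : ∀ l, IsAffine (R.V l).toScheme := R.hV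
  let φ : Γ(S, W) → ∀ l, Γ(Xf (R.a l), R.V l) := fun r l => (f (R.a l)).appLE W (R.V l) (R.e l) r
  have hB : ∀ r l, (Xf (R.a l)).basicOpen (φ r l) = R.V l ⊓ f (R.a l) ⁻¹ᵁ S.basicOpen r :=
    fun r l => Scheme.basicOpen_appLE _ _ _ _ _
  refine ⟨fun r s => ?_, fun r t ht => ?_⟩
  · have eB : ∀ l, (Xf (R.a l)).basicOpen (φ r l) ≤ f (R.a l) ⁻¹ᵁ S.basicOpen r := fun l => by
      rw [hB]; exact inf_le_right
    choose n₀ t₀ ht₀ using fun l =>
      qcoh_exists_pow_smul (R.hV l) (ob D (R.a l)) (φ r l) (resM _ (eB l) (mem' D (R.a l) _ s))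
    let N := Finset.univ.sup n₀
    let t : ∀ l, Γ(ob D (R.a l), R.V l) := fun l => φ r l ^ (N - n₀ l) • t₀ l
    let s' : Γ(descended D, S.basicOpen r) := S.presheaf.map (homOfLE (S.basicOpen_le r)).op (r ^ N) • s
    have ht : ∀ l, resM _ ((Xf (R.a l)).basicOpen_le _) (t l) = resM _ (eB l) (mem' D (R.a l) _ s') := fun l => by
      rw [resM_smul, ht₀, smul_smul, ← map_mul, ← pow_add, Nat.sub_add_cancel (Finset.le_sup (Finset.mem_univ l)),
        mem'_smul, resM_smul, scalar_res (f (R.a l)) (S.basicOpen_le r) (eB l) ((Xf (R.a l)).basicOpen_le _) (R.e l),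
        map_pow ((f (R.a l)).appLE W (R.V l) (R.e l)).hom]
    let rW : Γ(W.toScheme, ⊤) := W.ι.appLE W ⊤ W.ι_preimage_self.ge r
    have hpair : ∀ p : R.κ × R.κ, ∃ k : ℕ,
        (pullback.fst (refb R p.1) (refb R p.2) ≫ refb R p.1).appTop rW ^ k •
          (act D (pullback.fst (refb R p.1) (refb R p.2) ≫ (R.V p.1).ι)
              (pullback.snd (refb R p.1) (refb R p.2) ≫ (R.V p.2).ι) (over_eq (refb_over R) p.1 p.2)
              (pl (pullback.fst (refb R p.1) (refb R p.2) ≫ (R.V p.1).ι) _ (top_le_comp_ι _) (t p.1)) -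
            pl (pullback.snd (refb R p.1) (refb R p.2) ≫ (R.V p.2).ι) _
              (top_le_comp_ι _) (t p.2)) = 0 := by
      rintro ⟨l, m⟩
      let x := pullback.fst (refb R l) (refb R m) ≫ (R.V l).ι
      let y := pullback.snd (refb R l) (refb R m) ≫ (R.V m).ι
      let c := pullback.fst (refb R l) (refb R m) ≫ refb R l
      have hx : x ≫ f (R.a l) = c ≫ W.ι := by
        show (_ ≫ _) ≫ _ = (_ ≫ _) ≫ _
        rw [Category.assoc, refb_over, Category.assoc]
      have hy : y ≫ f (R.a m) = c ≫ W.ι := by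
        show (_ ≫ _) ≫ _ = (_ ≫ _) ≫ _
        rw [Category.assoc, refb_over, pullback.condition, Category.assoc]
      have ex : (⊤ : (pullback (refb R l) (refb R m)).Opens) ≤ x ⁻¹ᵁ R.V l :=
        fun z _ => (pullback.fst (refb R l) (refb R m) z).2
      have ey : (⊤ : (pullback (refb R l) (refb R m)).Opens) ≤ y ⁻¹ᵁ R.V m :=
        fun z _ => (pullback.snd (refb R l) (refb R m) z).2
      haveI : Coh.IsQCoh ((Scheme.Modules.pullback y).obj (ob D (R.a m))) :=
        EGA43.InjFibre.isQCoh_pullback y _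
      refine qcoh_exists_pow_smul_eq_zero (isAffineOpen_top (pullback (refb R l) (refb R m)))
        ((Scheme.Modules.pullback y).obj (ob D (R.a m))) (c.appTop rW)
        (act D x y (hx.trans hy.symm) (pl x _ ex (t l)) - pl y _ ey (t m)) ?_
      have h₁ : (pullback (refb R l) (refb R m)).basicOpen (c.appTop rW) ≤
          x ⁻¹ᵁ (Xf (R.a l)).basicOpen (φ r l) := by
        rw [scalar_point (f (R.a l)) x c hx (R.e l) ex r, Scheme.basicOpen_appLE]
        exact inf_le_right
      have h₂ : (pullback (refb R l) (refb R m)).basicOpen (c.appTop rW) ≤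
          y ⁻¹ᵁ (Xf (R.a m)).basicOpen (φ r m) := by
        rw [scalar_point (f (R.a m)) y c hy (R.e m) ey r, Scheme.basicOpen_appLE]
        exact inf_le_right
      rw [map_sub, sub_eq_zero, act_eq, ← app_resM, resM_pl, resM_pl,
        ← pl_resM x (ob D (R.a l)) ((Xf (R.a l)).basicOpen_le _) h₁,
        ← pl_resM y (ob D (R.a m)) ((Xf (R.a m)).basicOpen_le _) h₂, ht, ht, pl_resM, pl_resM]
      exact (isCompat_mem' D s').on_points D x y (hx.trans hy.symm) _ _
    choose k hk using hpair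
    let K := Finset.univ.sup k
    let n : ∀ l, Obj D (refb R) (fun l => (R.V l).ι) l := fun l => ⟨pl (R.V l).ι _ (R.V l).ι_preimage_self.ge (t l)⟩
    have hn : (rW ^ K • n : ∀ l, Obj D (refb R) (fun l => (R.V l).ι) l) ∈ Inv D (refb_over R) := by
      rw [mem_Inv]
      intro p
      simp only [Pi.smul_apply, Sec.val_smul, n]
      rw [tr₀_smul, tr₀_smul, act_smul, fst_appTop (refb R p.1) (refb R p.2) _ rfl,
        snd_appTop (refb R p.1) (refb R p.2) _ rfl,
        tr₀_pl' (R.V p.1).ι (pullback.fst (refb R p.1) (refb R p.2)) _ _ _ _ (top_le_comp_ι _),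
        tr₀_pl' (R.V p.2).ι (pullback.snd (refb R p.1) (refb R p.2)) _ _ _ _ (top_le_comp_ι _),
        ← sub_eq_zero, ← smul_sub, map_pow, show K = Finset.univ.sup k from rfl,
        ← Nat.sub_add_cancel (Finset.le_sup (f := k) (Finset.mem_univ p)), pow_add, mul_smul, hk p, smul_zero]
    obtain ⟨m, hm⟩ := refin_surj D R hf hW hn
    have hm' : ∀ l, resM _ (R.e l) (mem' D (R.a l) W m) = φ r l ^ K • t l := fun l => by
      refine (bijective_pl_of_opensRange (R.V l).ι (ob D (R.a l)) (R.V l).opensRange_ι.symm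
        (R.V l).ι_preimage_self.ge).1 ?_
      rw [pl_resM, pl_smul]
      refine (hm l).trans ?_
      simp only [Pi.smul_apply, Sec.val_smul, n, map_pow]
      rw [scalar_point (f (R.a l)) (R.V l).ι (refb R l) (refb_over R l) (R.e l) (R.V l).ι_preimage_self.ge r]
    let Rr : Refin f (S.basicOpen r) :=
      { κ := R.κ, fin := R.fin, a := R.a, V := fun l => (Xf (R.a l)).basicOpen (φ r l)
        hV := fun l => (R.hV l).basicOpen _
        e := eB
        surj := fun z hz => by
          obtain ⟨l, x, hx, hxz⟩ := R.surj z (S.basicOpen_le r hz)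
          refine ⟨l, x, ?_, hxz⟩
          rw [hB]
          exact ⟨hx, show f (R.a l) x ∈ S.basicOpen r from hxz ▸ hz⟩ }
    refine ⟨K + N, m, refin_ext D Rr hf (hW.basicOpen r) fun l => ?_⟩
    show resM _ (eB l) (mem' D (R.a l) _ (resM _ _ m)) = resM _ (eB l) (mem' D (R.a l) _ _)
    rw [resM_mem', resM_resM]
    rw [← resM_resM (ob D (R.a l)) (R.e l) ((Xf (R.a l)).basicOpen_le _), hm' l, resM_smul, ht l]
    have e : S.presheaf.map (homOfLE (S.basicOpen_le r)).op (r ^ (K + N)) • s =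
        S.presheaf.map (homOfLE (S.basicOpen_le r)).op (r ^ K) • s' := by
      rw [smul_smul, ← map_mul, ← pow_add]
    rw [e, mem'_smul (D := D) (r := S.presheaf.map (homOfLE (S.basicOpen_le r)).op (r ^ K)), resM_smul,
      scalar_res (f (R.a l)) (S.basicOpen_le r) (eB l) ((Xf (R.a l)).basicOpen_le _) (R.e l),
      map_pow ((f (R.a l)).appLE W (R.V l) (R.e l)).hom]
  · have hl : ∀ l, ∃ n : ℕ, φ r l ^ n • resM _ (R.e l) (mem' D (R.a l) W t) = 0 := fun l => by
      refine qcoh_exists_pow_smul_eq_zero (R.hV l) (ob D (R.a l)) (φ r l) _ ?_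
      have hle : (Xf (R.a l)).basicOpen (φ r l) ≤ f (R.a l) ⁻¹ᵁ S.basicOpen r := by rw [hB]; exact inf_le_right
      rw [resM_resM, ← resM_resM (ob D (R.a l)) ((Opens.map (f (R.a l)).base).map (homOfLE (S.basicOpen_le r))).le hle,
        ← resM_mem' D (R.a l) (S.basicOpen_le r) t, ht, map_zero, map_zero]
    choose n hn using hl
    refine ⟨Finset.univ.sup n, refin_ext D R hf hW fun l => ?_⟩
    rw [map_zero, map_zero, mem'_smul, resM_smul]
    show ((f (R.a l)).appLE W (R.V l) (R.e l)) (r ^ Finset.univ.sup n) • _ = 0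
    rw [map_pow, ← Nat.sub_add_cancel (Finset.le_sup (f := n) (Finset.mem_univ l)), pow_add, mul_smul, hn, smul_zero]

end Groth.Agent.Desc19b.QDesc
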