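import Groth.Agent.Desc19b.QDesc.GlueRel
import Groth.Prelude.Def_EtAssoc2

/-!
# The étale sheaf of a quasi-coherent module
-/

set_option autoImplicit false
set_option backward.isDefEq.respectTransparency false
set_option backward.isDefEq.respectTransparency.types false
set_option linter.style.haveILetI false
set_option linter.unusedSectionVars false

universe u

open CategoryTheory CategoryTheory.Limits AlgebraicGeometry Opposite TopologicalSpace
open Groth.Agent.Coherent Groth.Agent.PicLib

namespace Groth.Agent.Desc19b.QDesc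

theorem steps_eq {A B X : Scheme.{u}} (h : B ⟶ A) (u : A ⟶ X) (u' : B ⟶ X) (hk : h ≫ u = u') (F : X.Modules)
    (s : Γ((Scheme.Modules.pullback u).obj F, ⊤)) :
    (((Scheme.Modules.pullbackComp h u).app F).hom ≫
        eqToHom (congrArg (fun k => (Scheme.Modules.pullback k).obj F) hk)).app ⊤
      (((Scheme.Modules.pullback h).obj ((Scheme.Modules.pullback u).obj F)).presheaf.map
        (eqToHom (Opens.map_top h.base).symm).op
        (((Scheme.Modules.pullbackPushforwardAdjunction h).unit.app ((Scheme.Modules.pullback u).obj F)).app ⊤ s)) =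
      tr₀ u h u' hk F s := by
  subst hk
  rw [tr₀_eq, mcI_eq]
  rfl

variable {S : Scheme.{u}} (F : S.Modules)

theorem resMap_eq {U U' : S.Etale} (g : U' ⟶ U) (s : EtAssoc.obj F U) :
    EtAssoc.resMap F g s = tr₀ U.hom g.left U'.hom (Over.w g.hom) F s :=
  steps_eq g.left U.hom U'.hom (Over.w g.hom) F s

/-- `U ↦ Γ(U, u^* F)` on the small étale site. -/
noncomputable def etPresheaf : S.Etaleᵒᵖ ⥤ AddCommGrpCat.{u + 1} where
  obj U := AddCommGrpCat.of (ULift.{u + 1} (Γ((Scheme.Modules.pullback U.unop.hom).obj F, ⊤)))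
  map {U U'} g := AddCommGrpCat.ofHom (AddMonoidHom.mk'
    (fun s => ULift.up (tr₀ U.unop.hom g.unop.left U'.unop.hom (Over.w g.unop.hom) F s.down))
    fun s s' => ULift.ext _ _ (map_add (tr₀ U.unop.hom g.unop.left U'.unop.hom (Over.w g.unop.hom) F) s.down s'.down))
  map_id U := by
    ext s
    exact tr₀_id _ _ _
  map_comp {U U' U''} g g' := by
    ext s
    exact (tr₀_tr₀ _ _ _ _ _ _ (Over.w g'.unop.hom) _ _).symm

theorem etPresheaf_map {U U' : S.Etale} (g : U' ⟶ U) (s : (etPresheaf F).obj (op U)) :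
    ((etPresheaf F).map g.op s).down = tr₀ U.hom g.left U'.hom (Over.w g.hom) F s.down := rfl

theorem cov_of_etale {ι : Type u} {W : Scheme.{u}} {T : ι → Scheme.{u}} (b : ∀ i, T i ⟶ W)
    (he : ∀ i, AlgebraicGeometry.Etale (b i)) (hs : ∀ w : W, ∃ i x, b i x = w) : Cov b := by
  refine cov_of_fpqc b (Scheme.fppfPrecoverage_le_fpqcPrecoverage _
    ((Scheme.ofArrows_mem_precoverage_iff _).2 ⟨fun w => ?_, fun i => ?_⟩))
  · obtain ⟨i, x, hx⟩ := hs w
    exact ⟨i, x, hx⟩
  · haveI := he i
    exact ⟨inferInstance, inferInstance⟩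

variable [Coh.IsQCoh F]

theorem isSheaf_etPresheaf : Presheaf.IsSheaf S.smallEtaleTopology (etPresheaf F) := by
  rw [Presheaf.isSheaf_iff_isSheaf_forget _ _ (forget AddCommGrpCat.{u + 1}), isSheaf_iff_isSheaf_of_type]
  intro U R hR x hx
  have hR' : R ∈ (S.smallPretopology (P := EtCoh.etaleMP) (Q := EtCoh.etaleMP)).toGrothendieck U := by
    rw [← Scheme.smallGrothendieckTopology_eq_toGrothendieck_smallPretopology S le_rfl]
    exact hR
  choose Z g z hg he hz using (Scheme.mem_toGrothendieck_smallPretopology U R).1 hR'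
  let b : ∀ w : U.left, (Z w).left ⟶ U.left := fun w => (g w).left
  have hbe : ∀ w, AlgebraicGeometry.Etale (b w) := he
  have hb : Cov b := cov_of_etale b hbe fun w => ⟨w, z w, hz w⟩
  -- the fibre products, as objects of the site
  let mkP : ∀ (Y : S.Etale) (f : Y ⟶ U) (w : U.left), S.Etale := fun Y f w => by
    haveI := hbe w
    haveI : AlgebraicGeometry.Etale Y.hom := Y.prop
    exact Scheme.Etale.mk (pullback.fst f.left (b w) ≫ Y.hom)
  have pair : ∀ (Y : S.Etale) (f : Y ⟶ U) (hf : R f) (w : U.left)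
      (h₁ : pullback.fst f.left (b w) ≫ Y.hom = pullback.fst f.left (b w) ≫ Y.hom)
      (h₂ : pullback.snd f.left (b w) ≫ (Z w).hom = pullback.fst f.left (b w) ≫ Y.hom),
      tr₀ Y.hom (pullback.fst f.left (b w)) (pullback.fst f.left (b w) ≫ Y.hom) h₁ F (x f hf).down =
      tr₀ (Z w).hom (pullback.snd f.left (b w)) (pullback.fst f.left (b w) ≫ Y.hom) h₂ F (x (g w) (hg w)).down := by
    intro Y f hf w h₁ h₂
    let p₁ : mkP Y f w ⟶ Y := MorphismProperty.Over.homMk (pullback.fst f.left (b w)) rfl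
    let p₂ : mkP Y f w ⟶ Z w := MorphismProperty.Over.homMk (pullback.snd f.left (b w)) h₂
    have hc : p₁ ≫ f = p₂ ≫ g w := by
      apply MorphismProperty.Over.Hom.ext
      exact pullback.condition
    exact congrArg ULift.down (hx p₁ p₂ hf (hg w) hc)
  have htw : ∀ (Y : S.Etale) (f : Y ⟶ U) (w : U.left),
      pullback.snd f.left (b w) ≫ (Z w).hom = pullback.fst f.left (b w) ≫ Y.hom := fun Y f w => by
    rw [show (Z w).hom = (g w).left ≫ U.hom from (Over.w (g w).hom).symm,
      show Y.hom = f.left ≫ U.hom from (Over.w f.hom).symm, ← Category.assoc, ← Category.assoc, pullback.condition]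
  obtain ⟨s, hs, huniq⟩ := existsUnique_glue_rel U.hom F hb (fun w => (Z w).hom) (fun w => Over.w (g w).hom)
    (fun w => (x (g w) (hg w)).down) (fun l m => pair (Z l) (g l) (hg l) m rfl (htw _ _ _))
  refine ⟨ULift.up s, fun Y f hf => ULift.ext _ _ ?_, fun s' hs' => ULift.ext _ _ (huniq s'.down fun w => ?_)⟩
  · show tr₀ U.hom f.left Y.hom (Over.w f.hom) F s = (x f hf).down
    have hcY : Cov (fun w => pullback.fst f.left (b w)) := by
      refine cov_of_etale _ (fun w => ?_) fun y => ?_
      · haveI := hbe w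
        infer_instance
      · obtain ⟨p, hp, -⟩ := Scheme.Pullback.exists_preimage_pullback y (z (f.left y)) (hz (f.left y)).symm
        exact ⟨_, p, hp⟩
    refine eq_of_cov Y.hom F hcY _ _ fun w => ?_
    rw [pair Y f hf w rfl (htw Y f w), ← hs w, tr₀_tr₀, tr₀_tr₀, tr₀_congr U.hom pullback.condition _]
  · exact congrArg ULift.down (hs' (g w) (hg w))

/-- The étale sheaf of a quasi-coherent module. -/
noncomputable def etSheaf : EtCoh.Ab S := ⟨etPresheaf F, isSheaf_etPresheaf F⟩

theorem isAssoc_etSheaf : EtAssoc.IsAssoc F (etSheaf F) :=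
  ⟨fun U => AddEquiv.refl _, fun U U' g s => (resMap_eq F g s.down).symm⟩

end Groth.Agent.Desc19b.QDesc
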