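import Groth.Agent.Desc19b.QDesc.Affine
import Mathlib.AlgebraicGeometry.Sites.Fpqc
import Mathlib.Topology.Sheaves.SheafCondition.UniqueGluing

/-!
# fpqc descent of sections of quasi-coherent modules
-/

set_option autoImplicit false
set_option backward.isDefEq.respectTransparency false
set_option backward.isDefEq.respectTransparency.types false
set_option linter.style.haveILetI false
set_option linter.unusedSectionVars false

universe u

open CategoryTheory CategoryTheory.Limits AlgebraicGeometry Opposite TopologicalSpace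
open Groth.Agent.Coherent Groth.Agent.PicLib

namespace Groth.Agent.Desc19b.QDesc

/-- Sections over the range of an open immersion are the global sections of the pullback. -/
theorem bijective_pl_of_opensRange {W X : Scheme.{u}} (j : W ⟶ X) [IsOpenImmersion j] (M : X.Modules)
    {U : X.Opens} (hU : U = j.opensRange) (e : (⊤ : W.Opens) ≤ j ⁻¹ᵁ U) : Function.Bijective (pl j M e) := by
  have h₁ : Function.Bijective (pullSec j : Γ(M, U) → _) := by
    have hb : Function.Bijective (resM M (j.image_preimage_le U)) :=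
      resM_bijective_of_eq M _ (by rw [j.image_preimage_eq_opensRange_inf, hU, inf_idem])
    have hI := ConcreteCategory.bijective_of_isIso
      (((Scheme.Modules.restrictFunctorIsoPullback j).hom.app M).app (j ⁻¹ᵁ U))
    exact (funext fun m => restrictIso_hom_app j M U m) ▸ hI.comp hb
  exact (resM_bijective_of_eq _ e (le_antisymm le_top e)).comp h₁

/-- Pulling back to an open commutes with composing pullbacks. -/
theorem mcI_tr₀ {X W B T : Scheme.{u}} (j : W ⟶ X) (b : B ⟶ W) (k : B ⟶ X) (hk : b ≫ j = k) (p : T ⟶ B)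
    (q : T ⟶ W) (hq : p ≫ b = q) (r : T ⟶ X) (hr : p ≫ k = r) (M : X.Modules)
    (x : Γ((Scheme.Modules.pullback b).obj ((Scheme.Modules.pullback j).obj M), ⊤)) :
    (mcI j q r (by rw [← hq, Category.assoc, hk, hr]) M).app ⊤
        (tr₀ b p q hq ((Scheme.Modules.pullback j).obj M) x) =
      tr₀ k p r hr M ((mcI j b k hk M).app ⊤ x) := by
  have E : mcI b p q hq ((Scheme.Modules.pullback j).obj M) ≫ mcI j q r (by rw [← hq, Category.assoc, hk, hr]) M =
      (Scheme.Modules.pullback p).map (mcI j b k hk M) ≫ mcI k p r hr M :=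
    (Pseudofunctor.mapComp'_inv_whiskerRight_mapComp'₀₂₃_inv_app Desc.modPF.{u} j.op.toLoc b.op.toLoc
      p.op.toLoc k.op.toLoc q.op.toLoc r.op.toLoc (by subst hk; rfl) (by subst hq; rfl) (by subst hr; rfl) M).symm
  rw [tr₀_eq, tr₀_eq, ← app_pl p (mcI j b k hk M) (top_le p) x]
  exact congr(($E).app ⊤ (pl p _ (top_le p) x))

/-- Two sections with the same restrictions to the members of a flat affine covering of an affine
scheme agree; sections agreeing on overlaps glue. -/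
theorem existsUnique_glue_over {X W : Scheme.{u}} [IsAffine W] (j : W ⟶ X) (P : X.Modules) [Coh.IsQCoh P]
    {κ : Type u} [Finite κ] {V : κ → Scheme.{u}} [∀ l, IsAffine (V l)] (b : ∀ l, V l ⟶ W) [∀ l, Flat (b l)]
    (hb : ∀ w : W, ∃ l x, b l x = w) (k : ∀ l, V l ⟶ X) (hk : ∀ l, b l ≫ j = k l)
    (t : ∀ l, Γ((Scheme.Modules.pullback (k l)).obj P, ⊤))
    (ht : ∀ l m, tr₀ (k l) (pullback.fst (b l) (b m)) (pullback.fst (b l) (b m) ≫ k l) rfl P (t l) =
      tr₀ (k m) (pullback.snd (b l) (b m)) (pullback.fst (b l) (b m) ≫ k l)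
        (by rw [← hk, ← hk, ← Category.assoc, ← Category.assoc, pullback.condition]) P (t m)) :
    ∃! s : Γ((Scheme.Modules.pullback j).obj P, ⊤), ∀ l, tr₀ j (b l) (k l) (hk l) P s = t l := by
  haveI : Coh.IsQCoh ((Scheme.Modules.pullback j).obj P) := EGA43.InjFibre.isQCoh_pullback j P
  have hI : ∀ l, Function.Bijective ((mcI j (b l) (k l) (hk l) P).app ⊤) := fun l => by
    haveI : IsIso (mcI j (b l) (k l) (hk l) P) :=
      ⟨mcH j (b l) (k l) (hk l) P, mcI_mcH _ _ _ _ _, mcH_mcI _ _ _ _ _⟩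
    exact ConcreteCategory.bijective_of_isIso _
  choose u' hu' using fun l => (hI l).2 (t l)
  have hu : ∀ l m, tr₀ (b l) (pullback.fst (b l) (b m)) (pullback.fst (b l) (b m) ≫ b l) rfl _ (u' l) =
      tr₀ (b m) (pullback.snd (b l) (b m)) (pullback.fst (b l) (b m) ≫ b l) pullback.condition.symm _ (u' m) := by
    intro l m
    have hQ : Function.Bijective ((mcI j (pullback.fst (b l) (b m) ≫ b l) (pullback.fst (b l) (b m) ≫ k l)
        (by rw [Category.assoc, hk]) P).app ⊤) := by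
      haveI : IsIso (mcI j (pullback.fst (b l) (b m) ≫ b l) (pullback.fst (b l) (b m) ≫ k l)
          (by rw [Category.assoc, hk]) P) := ⟨mcH _ _ _ _ _, mcI_mcH _ _ _ _ _, mcH_mcI _ _ _ _ _⟩
      exact ConcreteCategory.bijective_of_isIso _
    refine hQ.1 ?_
    rw [mcI_tr₀ j (b l) (k l) (hk l) (pullback.fst (b l) (b m)) _ rfl _ rfl P (u' l), hu' l,
      mcI_tr₀ j (b m) (k m) (hk m) (pullback.snd (b l) (b m)) _ pullback.condition.symm
        (pullback.fst (b l) (b m) ≫ k l)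
        (by rw [← hk, ← hk, ← Category.assoc, ← Category.assoc, pullback.condition]) P (u' m), hu' m]
    exact ht l m
  obtain ⟨s, hs, huniq⟩ := existsUnique_glue_affine b ((Scheme.Modules.pullback j).obj P) hb u' hu
  refine ⟨s, fun l => ?_, fun s' hs' => huniq s' fun l => (hI l).1 ?_⟩
  · rw [tr₀_eq, hs l, hu' l]
  · rw [← tr₀_eq j (b l) (k l) (hk l) P s', hs' l, hu' l]

section family

variable {ι : Type u} {X : Scheme.{u}} {T : ι → Scheme.{u}} (g : ∀ i, T i ⟶ X)

/-- A finite affine refinement of a family over an open. -/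
structure Refin (W : X.Opens) where
  /-- The index type. -/
  κ : Type u
  [fin : Finite κ]
  /-- The member. -/
  a : κ → ι
  /-- The affine open of the member. -/
  V : ∀ l, (T (a l)).Opens
  hV : ∀ l, IsAffineOpen (V l)
  e : ∀ l, V l ≤ g (a l) ⁻¹ᵁ W
  surj : ∀ w ∈ W, ∃ l, ∃ x ∈ V l, g (a l) x = w

/-- Flat families with finite affine refinements over affine opens. -/
structure Cov : Prop where
  flat : ∀ i, Flat (g i)
  refin : ∀ W : X.Opens, IsAffineOpen W → Nonempty (Refin g W)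

theorem cov_of_fpqc (hg : Presieve.ofArrows T g ∈ Scheme.fpqcPrecoverage X) : Cov g := by
  obtain ⟨hqc, hP⟩ := hg
  obtain ⟨-, hflat⟩ := (Scheme.ofArrows_mem_precoverage_iff _).1 hP
  refine ⟨hflat, fun W hW => ?_⟩
  haveI : QuasiCompactCover (⟨ι, T, g⟩ : PreZeroHypercover X) := Scheme.presieve₀_mem_qcPrecoverage_iff.1 hqc
  obtain ⟨n, a, V, hV, hU⟩ :=
    QuasiCompactCover.exists_isAffineOpen_of_isCompact (⟨ι, T, g⟩ : PreZeroHypercover X) hW.isCompact
  refine ⟨{ κ := ULift.{u} (Fin n), a := fun l => a l.down, V := fun l => V l.down, hV := fun l => hV l.down,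
            e := fun l x hx => ?_, surj := fun w hw => ?_ }⟩
  · exact hU.le (Set.mem_iUnion.2 ⟨l.down, x, hx, rfl⟩)
  · obtain ⟨l, x, hx, rfl⟩ := Set.mem_iUnion.1 (hU.ge hw)
    exact ⟨⟨l⟩, x, hx, rfl⟩

variable {g} (P : X.Modules) [Coh.IsQCoh P]

theorem tr₀_pair {i j : ι} {t : ∀ i, Γ((Scheme.Modules.pullback (g i)).obj P, ⊤)}
    (ht : ∀ i j, tr₀ (g i) (pullback.fst (g i) (g j)) (pullback.fst (g i) (g j) ≫ g i) rfl P (t i) =
      tr₀ (g j) (pullback.snd (g i) (g j)) (pullback.fst (g i) (g j) ≫ g i) pullback.condition.symm P (t j))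
    {Z : Scheme.{u}} (z : Z ⟶ T i) (z' : Z ⟶ T j) (k : Z ⟶ X) (hz : z ≫ g i = k) (hz' : z' ≫ g j = k) :
    tr₀ (g i) z k hz P (t i) = tr₀ (g j) z' k hz' P (t j) := by
  have h := congrArg (tr₀ (pullback.fst (g i) (g j) ≫ g i) (pullback.lift z z' (hz.trans hz'.symm)) k
    (by rw [← Category.assoc, pullback.lift_fst, hz]) P) (ht i j)
  rw [tr₀_tr₀, tr₀_tr₀, tr₀_congr (g i) (pullback.lift_fst _ _ _) k, tr₀_congr (g j) (pullback.lift_snd _ _ _) k] at h
  exact h

/-- Sections over the points of an affine scheme with the same restrictions to a covering agree. -/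
theorem eq_of_cover_affine {Z : Scheme.{u}} [IsAffine Z] {κ : Type u} [Finite κ] {V : κ → Scheme.{u}}
    [∀ l, IsAffine (V l)] (c : ∀ l, V l ⟶ Z) [∀ l, Flat (c l)] (hc : ∀ w : Z, ∃ l x, c l x = w) (k : Z ⟶ X)
    (s s' : Γ((Scheme.Modules.pullback k).obj P, ⊤))
    (h : ∀ l, tr₀ k (c l) (c l ≫ k) rfl P s = tr₀ k (c l) (c l ≫ k) rfl P s') : s = s' :=
  (existsUnique_glue_over k P c hc (fun l => c l ≫ k) (fun _ => rfl) (fun l => tr₀ k (c l) _ rfl P s')
    fun l m => by rw [tr₀_tr₀, tr₀_tr₀, tr₀_congr k pullback.condition _]).unique h (fun _ => rfl)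

/-- Sections of a pullback are determined on a covering by affine opens. -/
theorem eq_of_local {Z : Scheme.{u}} (k : Z ⟶ X) (s s' : Γ((Scheme.Modules.pullback k).obj P, ⊤))
    (h : ∀ x : Z, ∃ U : Z.Opens, x ∈ U ∧ tr₀ k U.ι (U.ι ≫ k) rfl P s = tr₀ k U.ι (U.ι ≫ k) rfl P s') :
    s = s' := by
  choose U hxU hU using h
  refine TopCat.Sheaf.eq_of_locally_eq'
    (⟨((Scheme.Modules.pullback k).obj P).presheaf, ((Scheme.Modules.pullback k).obj P).isSheaf⟩ :
      TopCat.Sheaf Ab Z) U ⊤ (fun _ => homOfLE le_top) (fun x _ => Opens.mem_iSup.2 ⟨x, hxU x⟩) s s' fun x => ?_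
  have hb := bijective_pl_of_opensRange (U x).ι ((Scheme.Modules.pullback k).obj P) (U x).opensRange_ι.symm
    (e := (U x).ι_preimage_self.ge)
  refine hb.1 ?_
  show pl _ _ _ (resM _ le_top s) = pl _ _ _ (resM _ le_top s')
  rw [pl_resM, pl_resM]
  haveI : IsIso (mcI k (U x).ι ((U x).ι ≫ k) rfl P) := ⟨mcH _ _ _ _ _, mcI_mcH _ _ _ _ _, mcH_mcI _ _ _ _ _⟩
  refine (ConcreteCategory.bijective_of_isIso ((mcI k (U x).ι ((U x).ι ≫ k) rfl P).app ⊤)).1 ?_
  have := hU x
  rw [tr₀_eq, tr₀_eq] at this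
  exact this

/-- fpqc descent of sections of a quasi-coherent module. -/
theorem existsUnique_glue (hg : Cov g) (t : ∀ i, Γ((Scheme.Modules.pullback (g i)).obj P, ⊤))
    (ht : ∀ i j, tr₀ (g i) (pullback.fst (g i) (g j)) (pullback.fst (g i) (g j) ≫ g i) rfl P (t i) =
      tr₀ (g j) (pullback.snd (g i) (g j)) (pullback.fst (g i) (g j) ≫ g i) pullback.condition.symm P (t j)) :
    ∃! m : Γ(P, ⊤), ∀ i, pl (g i) P (top_le (g i)) m = t i := by
  have R : ∀ W : X.affineOpens, Refin g W.1 := fun W => (hg.refin W.1 W.2).some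
  let b : ∀ (W : X.affineOpens) (l : (R W).κ), ((R W).V l).toScheme ⟶ W.1.toScheme := fun W l =>
    (g ((R W).a l)).resLE W.1 ((R W).V l) ((R W).e l)
  have hbk : ∀ W l, b W l ≫ W.1.ι = ((R W).V l).ι ≫ g ((R W).a l) := fun W l => Scheme.Hom.resLE_comp_ι _ _
  have hfl : ∀ W l, Flat (b W l) := fun W l => by
    haveI := hg.flat ((R W).a l)
    exact (inferInstance : Flat ((g ((R W).a l)).resLE W.1 ((R W).V l) ((R W).e l)))
  have hbs : ∀ (W : X.affineOpens) (w : W.1.toScheme), ∃ l x, b W l x = w := fun W w => by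
    obtain ⟨l, x, hx, hw⟩ := (R W).surj w.1 w.2
    exact ⟨l, ⟨x, hx⟩, W.1.ι.isOpenEmbedding.injective
      ((congr($(hbk W l) ⟨x, hx⟩)).trans hw)⟩
  have haff : ∀ W : X.affineOpens, IsAffine W.1.toScheme := fun W => W.2
  have hex : ∀ W : X.affineOpens, ∃! s : Γ((Scheme.Modules.pullback W.1.ι).obj P, ⊤),
      ∀ l, tr₀ W.1.ι (b W l) (((R W).V l).ι ≫ g ((R W).a l)) (hbk W l) P s =
        tr₀ (g ((R W).a l)) ((R W).V l).ι _ rfl P (t _) := fun W => by
    haveI := (R W).fin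
    haveI : ∀ l, IsAffine ((R W).V l).toScheme := (R W).hV
    haveI := hfl W
    haveI := haff W
    refine existsUnique_glue_over W.1.ι P (b W) (hbs W) _ (hbk W) _ fun l m => ?_
    rw [tr₀_tr₀, tr₀_tr₀]
    exact tr₀_pair P ht _ _ _ _ _
  choose σ hσ hσu using hex
  -- the defining property does not depend on the refinement
  have hint : ∀ (W : X.affineOpens) {Z : Scheme.{u}} [IsAffine Z] {i : ι} (z : Z ⟶ T i) (z' : Z ⟶ W.1.toScheme)
      (k : Z ⟶ X) (hz : z ≫ g i = k) (hz' : z' ≫ W.1.ι = k),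
      tr₀ W.1.ι z' k hz' P (σ W) = tr₀ (g i) z k hz P (t i) := by
    intro W Z _ i z z' k hz hz'
    haveI := (R W).fin
    haveI : ∀ l, IsAffine ((R W).V l).toScheme := (R W).hV
    haveI := hfl W
    haveI := haff W
    haveI : ∀ l, IsAffine (pullback z' (b W l)) := fun l => inferInstance
    refine eq_of_cover_affine P (fun l => pullback.fst z' (b W l)) (fun w => ?_) k _ _ fun l => ?_
    · obtain ⟨l, x, hx⟩ := hbs W (z' w)
      obtain ⟨p, hp, -⟩ := Scheme.Pullback.exists_preimage_pullback w x hx.symm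
      exact ⟨l, p, hp⟩
    · rw [tr₀_tr₀, tr₀_tr₀, tr₀_congr W.1.ι pullback.condition _]
      have h := congrArg (tr₀ (((R W).V l).ι ≫ g ((R W).a l)) (pullback.snd z' (b W l)) (pullback.fst z' (b W l) ≫ k)
        (by rw [← hz', ← hbk W l, ← Category.assoc, ← Category.assoc, pullback.condition]) P) (hσ W l)
      rw [tr₀_tr₀, tr₀_tr₀] at h
      rw [h]
      exact tr₀_pair P ht _ _ _ _ _
  have hbij : ∀ W : X.affineOpens, Function.Bijective (pl W.1.ι P W.1.ι_preimage_self.ge) := fun W =>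
    bijective_pl_of_opensRange W.1.ι P W.1.opensRange_ι.symm _
  choose sec hsec using fun W => (hbij W).2 (σ W)
  have hres : ∀ (W U : X.affineOpens) (h : U.1 ≤ W.1),
      pl U.1.ι P U.1.ι_preimage_self.ge (resM P h (sec W)) = σ U := by
    intro W U h
    have e₁ : pl U.1.ι P U.1.ι_preimage_self.ge (resM P h (sec W)) =
        tr₀ W.1.ι (X.homOfLE h) U.1.ι (Scheme.homOfLE_ι _ _) P (σ W) := by
      rw [← hsec W, tr₀_def, pl_resM]
      exact (tr_pl W.1.ι (X.homOfLE h) U.1.ι _ P _ _ (sec W)).symm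
    rw [e₁]
    refine hσu U _ fun l => ?_
    haveI : IsAffine ((R U).V l).toScheme := (R U).hV l
    rw [tr₀_tr₀]
    exact hint W ((R U).V l).ι (b U l ≫ X.homOfLE h) _ rfl _
  have hcov : (⊤ : X.Opens) ≤ ⨆ W : X.affineOpens, W.1 := fun x _ => by
    obtain ⟨U, hU, hxU, -⟩ := Opens.isBasis_iff_nbhd.1 X.isBasis_affineOpens (Opens.mem_top x)
    exact Opens.mem_iSup.2 ⟨⟨U, hU⟩, hxU⟩
  obtain ⟨m, hm, -⟩ := TopCat.Sheaf.existsUnique_gluing' (⟨P.presheaf, P.isSheaf⟩ : TopCat.Sheaf Ab X)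
    (fun W : X.affineOpens => W.1) ⊤ (fun _ => homOfLE le_top) hcov sec (fun W W' => by
      choose U' hU' hxU' hU'le using fun x : (W.1 ⊓ W'.1 : X.Opens) =>
        Opens.isBasis_iff_nbhd.1 X.isBasis_affineOpens x.2
      refine TopCat.Sheaf.eq_of_locally_eq' (⟨P.presheaf, P.isSheaf⟩ : TopCat.Sheaf Ab X) U' (W.1 ⊓ W'.1)
        (fun x => homOfLE (hU'le x)) (fun x hx => Opens.mem_iSup.2 ⟨⟨x, hx⟩, hxU' _⟩) _ _ fun x => ?_
      show resM P (hU'le x) (resM P inf_le_left (sec W)) = resM P (hU'le x) (resM P inf_le_right (sec W'))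
      rw [resM_resM, resM_resM]
      exact (hbij ⟨U' x, hU' x⟩).1 ((hres W ⟨U' x, hU' x⟩ _).trans (hres W' ⟨U' x, hU' x⟩ _).symm))
  have hmW : ∀ W : X.affineOpens, pl W.1.ι P (top_le W.1.ι) m = σ W := fun W => by
    rw [← hsec W, ← (show resM P le_top m = sec W from hm W), pl_resM]
  refine ⟨m, fun i => eq_of_local P (g i) _ _ fun x => ?_, fun m' hm' => ?_⟩
  · obtain ⟨W, hW, hxW, -⟩ := Opens.isBasis_iff_nbhd.1 X.isBasis_affineOpens (Opens.mem_top (g i x))
    obtain ⟨(Z : (T i).Opens), hZ, hxZ, hle⟩ := Opens.isBasis_iff_nbhd.1 (T i).isBasis_affineOpens (show x ∈ g i ⁻¹ᵁ W from hxW)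
    refine ⟨Z, hxZ, ?_⟩
    haveI : IsAffine Z.toScheme := hZ
    rw [tr₀_pl, ← hint ⟨W, hW⟩ Z.ι ((g i).resLE W Z hle) _ rfl (Scheme.Hom.resLE_comp_ι _ _), ← hmW ⟨W, hW⟩,
      tr₀_pl]
  · refine TopCat.Sheaf.eq_of_locally_eq' (⟨P.presheaf, P.isSheaf⟩ : TopCat.Sheaf Ab X)
      (fun W : X.affineOpens => W.1) ⊤ (fun _ => homOfLE le_top) hcov _ _ fun W => (hbij W).1 ?_
    show pl _ _ _ (resM P le_top m') = pl _ _ _ (resM P le_top m)
    rw [pl_resM, pl_resM]
    refine (hσu W _ fun l => ?_).trans (hmW W).symm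
    rw [tr₀_pl, ← hm' ((R W).a l), tr₀_pl]

end family

end Groth.Agent.Desc19b.QDesc
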