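import Groth.Agent.Desc19b.QDesc.Glue

/-!
# fpqc descent of sections of pullbacks
-/

set_option autoImplicit false
set_option backward.isDefEq.respectTransparency false
set_option backward.isDefEq.respectTransparency.types false
set_option linter.style.haveILetI false
set_option linter.unusedSectionVars false

universe u

open CategoryTheory CategoryTheory.Limits AlgebraicGeometry Opposite TopologicalSpace
open Groth.Agent.Coherent Groth.Agent.PicLib

namespace Groth.Agent.Desc19b.QDesc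

/-- fpqc descent of sections of `j^* P`, with all pullbacks taken to the base. -/
theorem existsUnique_glue_rel {ι : Type u} {X W : Scheme.{u}} (j : W ⟶ X) (P : X.Modules) [Coh.IsQCoh P]
    {T : ι → Scheme.{u}} {b : ∀ i, T i ⟶ W} (hb : Cov b) (k : ∀ i, T i ⟶ X) (hk : ∀ i, b i ≫ j = k i)
    (t : ∀ i, Γ((Scheme.Modules.pullback (k i)).obj P, ⊤))
    (ht : ∀ l m, tr₀ (k l) (pullback.fst (b l) (b m)) (pullback.fst (b l) (b m) ≫ k l) rfl P (t l) =
      tr₀ (k m) (pullback.snd (b l) (b m)) (pullback.fst (b l) (b m) ≫ k l)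
        (by rw [← hk, ← hk, ← Category.assoc, ← Category.assoc, pullback.condition]) P (t m)) :
    ∃! s : Γ((Scheme.Modules.pullback j).obj P, ⊤), ∀ i, tr₀ j (b i) (k i) (hk i) P s = t i := by
  haveI : Coh.IsQCoh ((Scheme.Modules.pullback j).obj P) := EGA43.InjFibre.isQCoh_pullback j P
  have hI : ∀ l, Function.Bijective ((mcI j (b l) (k l) (hk l) P).app ⊤) := fun l => by
    haveI : IsIso (mcI j (b l) (k l) (hk l) P) :=
      ⟨mcH j (b l) (k l) (hk l) P, mcI_mcH _ _ _ _ _, mcH_mcI _ _ _ _ _⟩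
    exact ConcreteCategory.bijective_of_isIso _
  choose u' hu' using fun l => (hI l).2 (t l)
  have hu : ∀ l m, tr₀ (b l) (pullback.fst (b l) (b m)) (pullback.fst (b l) (b m) ≫ b l) rfl _ (u' l) =
      tr₀ (b m) (pullback.snd (b l) (b m)) (pullback.fst (b l) (b m) ≫ b l) pullback.condition.symm _ (u' m) := by
    intro l m
    have hQ : Function.Bijective ((mcI j (pullback.fst (b l) (b m) ≫ b l) (pullback.fst (b l) (b m) ≫ k l)
        (by rw [Category.assoc, hk]) P).app ⊤) := by
      haveI : IsIso (mcI j (pullback.fst (b l) (b m) ≫ b l) (pullback.fst (b l) (b m) ≫ k l)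
          (by rw [Category.assoc, hk]) P) := ⟨mcH _ _ _ _ _, mcI_mcH _ _ _ _ _, mcH_mcI _ _ _ _ _⟩
      exact ConcreteCategory.bijective_of_isIso _
    refine hQ.1 ?_
    rw [mcI_tr₀ j (b l) (k l) (hk l) (pullback.fst (b l) (b m)) _ rfl _ rfl P (u' l), hu' l,
      mcI_tr₀ j (b m) (k m) (hk m) (pullback.snd (b l) (b m)) _ pullback.condition.symm
        (pullback.fst (b l) (b m) ≫ k l)
        (by rw [← hk, ← hk, ← Category.assoc, ← Category.assoc, pullback.condition]) P (u' m), hu' m]
    exact ht l m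
  obtain ⟨s, hs, huniq⟩ := existsUnique_glue ((Scheme.Modules.pullback j).obj P) hb u' hu
  refine ⟨s, fun l => ?_, fun s' hs' => huniq s' fun l => (hI l).1 ?_⟩
  · rw [tr₀_eq, hs l, hu' l]
  · rw [← tr₀_eq j (b l) (k l) (hk l) P s', hs' l, hu' l]

/-- Sections of a pullback with equal pullbacks to a covering agree. -/
theorem eq_of_cov {ι : Type u} {X W : Scheme.{u}} (j : W ⟶ X) (P : X.Modules) [Coh.IsQCoh P]
    {T : ι → Scheme.{u}} {b : ∀ i, T i ⟶ W} (hb : Cov b) (s s' : Γ((Scheme.Modules.pullback j).obj P, ⊤))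
    (h : ∀ i, tr₀ j (b i) (b i ≫ j) rfl P s = tr₀ j (b i) (b i ≫ j) rfl P s') : s = s' :=
  (existsUnique_glue_rel j P hb (fun i => b i ≫ j) (fun _ => rfl) (fun i => tr₀ j (b i) _ rfl P s')
    fun l m => by rw [tr₀_tr₀, tr₀_tr₀, tr₀_congr j pullback.condition _]).unique h (fun _ => rfl)

end Groth.Agent.Desc19b.QDesc
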