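import Groth.Agent.Desc19b.QDesc.Basic
import Groth.Agent.EGA43.InjFibre.Scheme
import Mathlib.Tactic.IrreducibleDef

/-!
# Descent data for modules in terms of sections over points

For a descent datum `D` relative to `f i : X i ⟶ S`, a point `x : T ⟶ X i` gives `Γ(x^* D_i)`;
`act` is the gluing on these groups, `tr₀` the pullback along morphisms of points.
-/

set_option autoImplicit false
set_option backward.isDefEq.respectTransparency false
set_option backward.isDefEq.respectTransparency.types false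

universe u

open CategoryTheory CategoryTheory.Limits AlgebraicGeometry Opposite TopologicalSpace
open Groth.Agent.Coherent Groth.Agent.PicLib

namespace Groth.Agent.Desc19b.QDesc

variable {X Y Z W : Scheme.{u}}

theorem top_le (h : Z ⟶ Y) : (⊤ : Z.Opens) ≤ h ⁻¹ᵁ ⊤ := fun _ _ => trivial

/-- Pullback of global sections of pullbacks.  (Irreducible: the kernel must never evaluate it on
concrete pullback schemes.) -/
noncomputable irreducible_def tr₀ (g : Y ⟶ X) (h : Z ⟶ Y) (k : Z ⟶ X) (hk : h ≫ g = k) (M : X.Modules) :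
    Γ((Scheme.Modules.pullback g).obj M, ⊤) →+ Γ((Scheme.Modules.pullback k).obj M, ⊤) :=
  tr g h k hk M (top_le h)

theorem tr₀_smul (g : Y ⟶ X) (h : Z ⟶ Y) (k : Z ⟶ X) (hk : h ≫ g = k) (M : X.Modules) (r : Γ(Y, ⊤))
    (x : Γ((Scheme.Modules.pullback g).obj M, ⊤)) :
    tr₀ g h k hk M (r • x) = h.appTop r • tr₀ g h k hk M x := by
  rw [tr₀_def, tr_smul, show h.appTop = h.appLE ⊤ ⊤ (top_le h) from Scheme.Hom.app_eq_appLE _]

theorem tr₀_tr₀ (g : Y ⟶ X) (h : Z ⟶ Y) (k : Z ⟶ X) (hk : h ≫ g = k) (h' : W ⟶ Z) (k' : W ⟶ X)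
    (hk' : h' ≫ k = k') (M : X.Modules) (x : Γ((Scheme.Modules.pullback g).obj M, ⊤)) :
    tr₀ k h' k' hk' M (tr₀ g h k hk M x) = tr₀ g (h' ≫ h) k' (by rw [Category.assoc, hk, hk']) M x := by
  rw [tr₀_def, tr₀_def, tr₀_def]
  exact tr_tr g h k hk h' k' hk' M _ _ x

theorem tr₀_congr (g : Y ⟶ X) {h h' : Z ⟶ Y} (e : h = h') (k : Z ⟶ X) (hk : h ≫ g = k) (M : X.Modules)
    (x : Γ((Scheme.Modules.pullback g).obj M, ⊤)) :
    tr₀ g h k hk M x = tr₀ g h' k (e ▸ hk) M x := by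
  subst e
  rfl

theorem tr₀_id (g : Y ⟶ X) (M : X.Modules) (x : Γ((Scheme.Modules.pullback g).obj M, ⊤)) :
    tr₀ g (𝟙 Y) g (Category.id_comp g) M x = x := by
  have hb : Function.Bijective (tr₀ g (𝟙 Y) g (Category.id_comp g) M) := by
    haveI : IsIso (mcI g (𝟙 Y) g (Category.id_comp g) M) :=
      ⟨mcH g (𝟙 Y) g (Category.id_comp g) M, mcI_mcH _ _ _ _ _, mcH_mcI _ _ _ _ _⟩
    rw [tr₀_def]
    exact (ConcreteCategory.bijective_of_isIso ((mcI g (𝟙 Y) g (Category.id_comp g) M).app ⊤)).comp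
      (pl_id_bijective _ ⊤)
  refine hb.1 ?_
  rw [tr₀_tr₀]
  exact tr₀_congr g (Category.comp_id _) g _ M x

theorem app_tr₀ (g : Y ⟶ X) (h : Z ⟶ Y) (k : Z ⟶ X) (hk : h ≫ g = k) {M N : X.Modules} (φ : M ⟶ N)
    (x : Γ((Scheme.Modules.pullback g).obj M, ⊤)) :
    ((Scheme.Modules.pullback k).map φ).app ⊤ (tr₀ g h k hk M x) =
      tr₀ g h k hk N (((Scheme.Modules.pullback g).map φ).app ⊤ x) := by
  rw [tr₀_def, tr₀_def]
  exact app_tr g h k hk M φ _ x

theorem tr₀_eq (g : Y ⟶ X) (h : Z ⟶ Y) (k : Z ⟶ X) (hk : h ≫ g = k) (M : X.Modules)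
    (x : Γ((Scheme.Modules.pullback g).obj M, ⊤)) :
    tr₀ g h k hk M x = (mcI g h k hk M).app ⊤ (pl h _ (top_le h) x) := by
  rw [tr₀_def]
  rfl

section DD

variable {ι : Type u} {S : Scheme.{u}} {Xf : ι → Scheme.{u}} {f : ∀ i, Xf i ⟶ S}
  (D : Desc.modPF.{u}.DescentData f)

/-- The module over `X i`. -/
abbrev ob (i : ι) : (Xf i).Modules := D.obj i

variable {T T' : Scheme.{u}} {i j k : ι}

/-- The gluing isomorphism on two points. -/
noncomputable def dhom (x : T ⟶ Xf i) (y : T ⟶ Xf j) (h : x ≫ f i = y ≫ f j) :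
    (Scheme.Modules.pullback x).obj (ob D i) ⟶ (Scheme.Modules.pullback y).obj (ob D j) :=
  D.hom (x ≫ f i) x y rfl h.symm

theorem dhom_eq (q : T ⟶ S) (x : T ⟶ Xf i) (y : T ⟶ Xf j) (hx : x ≫ f i = q) (hy : y ≫ f j = q) :
    dhom D x y (hx.trans hy.symm) = D.hom q x y hx hy := by
  subst hx
  rfl

/-- The gluing on sections over two points. -/
noncomputable irreducible_def act (x : T ⟶ Xf i) (y : T ⟶ Xf j) (h : x ≫ f i = y ≫ f j) :
    Γ((Scheme.Modules.pullback x).obj (ob D i), ⊤) →+ Γ((Scheme.Modules.pullback y).obj (ob D j), ⊤) :=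
  ((dhom D x y h).app ⊤).hom

theorem act_eq (x : T ⟶ Xf i) (y : T ⟶ Xf j) (h : x ≫ f i = y ≫ f j)
    (s : Γ((Scheme.Modules.pullback x).obj (ob D i), ⊤)) : act D x y h s = (dhom D x y h).app ⊤ s := by
  rw [act_def]

theorem act_smul (x : T ⟶ Xf i) (y : T ⟶ Xf j) (h : x ≫ f i = y ≫ f j) (r : Γ(T, ⊤))
    (s : Γ((Scheme.Modules.pullback x).obj (ob D i), ⊤)) : act D x y h (r • s) = r • act D x y h s := by
  rw [act_eq, act_eq]
  exact Scheme.Modules.Hom.app_smul _ r s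

theorem act_self (x : T ⟶ Xf i) (s : Γ((Scheme.Modules.pullback x).obj (ob D i), ⊤)) :
    act D x x rfl s = s := by
  have e : dhom D x x rfl = 𝟙 _ := D.hom_self _ x rfl
  rw [act_eq]
  rw [e]
  rfl

theorem act_act (x : T ⟶ Xf i) (y : T ⟶ Xf j) (z : T ⟶ Xf k) (h : x ≫ f i = y ≫ f j)
    (h' : y ≫ f j = z ≫ f k) (s : Γ((Scheme.Modules.pullback x).obj (ob D i), ⊤)) :
    act D y z h' (act D x y h s) = act D x z (h.trans h') s := by
  have e : dhom D x y h ≫ dhom D y z h' = dhom D x z (h.trans h') := by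
    refine (congrArg (dhom D x y h ≫ ·) (dhom_eq D (x ≫ f i) y z h.symm (h.trans h').symm)).trans ?_
    exact D.hom_comp (x ≫ f i) x y z rfl h.symm (h.trans h').symm
  rw [act_eq, act_eq, act_eq]
  exact congr(($e).app ⊤ s)

theorem act_tr (x : T ⟶ Xf i) (y : T ⟶ Xf j) (h : x ≫ f i = y ≫ f j) (g : T' ⟶ T) (x' : T' ⟶ Xf i)
    (y' : T' ⟶ Xf j) (hx : g ≫ x = x') (hy : g ≫ y = y')
    (s : Γ((Scheme.Modules.pullback x).obj (ob D i), ⊤)) :
    tr₀ y g y' hy (ob D j) (act D x y h s) =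
      act D x' y' (by rw [← hx, ← hy, Category.assoc, Category.assoc, h]) (tr₀ x g x' hx (ob D i) s) := by
  have e : dhom D x' y' (by rw [← hx, ← hy, Category.assoc, Category.assoc, h]) =
      mcH x g x' hx (ob D i) ≫ (Scheme.Modules.pullback g).map (dhom D x y h) ≫ mcI y g y' hy (ob D j) :=
    (dhom_eq D (x' ≫ f i) x' y' rfl (by rw [← hx, ← hy, Category.assoc, Category.assoc, h])).trans
      (D.pullHom_hom g (x ≫ f i) (x' ≫ f i) (by rw [← hx, Category.assoc]) x y rfl h.symm x' y' hx hy).symm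
  have e' : mcI x g x' hx (ob D i) ≫ dhom D x' y' (by rw [← hx, ← hy, Category.assoc, Category.assoc, h]) =
      (Scheme.Modules.pullback g).map (dhom D x y h) ≫ mcI y g y' hy (ob D j) := by
    rw [e, mcI_mcH_assoc]
  rw [act_eq, act_eq, tr₀_eq, tr₀_eq]
  refine Eq.trans ?_ (congr(($e').app ⊤ (pl g _ (top_le g) s))).symm
  show (mcI y g y' hy (ob D j)).app ⊤ (pl g _ (top_le g) ((dhom D x y h).app ⊤ s)) = _
  rw [← app_pl g (dhom D x y h) (top_le g) s]
  rfl

end DD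

end Groth.Agent.Desc19b.QDesc
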