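import Groth.Agent.Desc19b.QDesc.Core
import Groth.Agent.Desc19b.QDesc.Glue

/-!
# Invariant families as sections over all points

An invariant family on a finite affine flat covering of `W` gives a section of `x^* D_i` for every point
`x : T ⟶ X i` over `W` with `T` affine.
-/

set_option autoImplicit false
set_option backward.isDefEq.respectTransparency false
set_option backward.isDefEq.respectTransparency.types false
set_option linter.style.haveILetI false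
set_option linter.unusedSectionVars false

universe u

open CategoryTheory CategoryTheory.Limits AlgebraicGeometry Opposite TopologicalSpace
open Groth.Agent.Coherent Groth.Agent.PicLib

namespace Groth.Agent.Desc19b.QDesc

variable {W : Scheme.{u}}
variable {ι : Type u} {S : Scheme.{u}} {Xf : ι → Scheme.{u}} {f : ∀ i, Xf i ⟶ S}
  (D : Desc.modPF.{u}.DescentData f)
  {κ : Type u} {V : κ → Scheme.{u}} {b : ∀ l, V l ⟶ W} {w : W ⟶ S} {a : κ → ι}
  {v : ∀ l, V l ⟶ Xf (a l)} (hv : ∀ l, v l ≫ f (a l) = b l ≫ w)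

include hv in
theorem point_over {T T' : Scheme.{u}} {i : ι} {x : T ⟶ Xf i} {c : T ⟶ W} (h : x ≫ f i = c ≫ w) {l : κ}
    {p : T' ⟶ T} {p' : T' ⟶ V l} (hp : p ≫ c = p' ≫ b l) : (p ≫ x) ≫ f i = (p' ≫ v l) ≫ f (a l) := by
  rw [Category.assoc, Category.assoc, h, hv, ← Category.assoc, hp, Category.assoc]

/-- An invariant family, compared on any point over two members. -/
theorem inv_pair {n : ∀ l, Obj D b v l} (hn : n ∈ Inv D hv) {T' : Scheme.{u}} {l m : κ} (p : T' ⟶ V l)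
    (p' : T' ⟶ V m) (hp : p ≫ b l = p' ≫ b m) :
    act D (p ≫ v l) (p' ≫ v m) (point_over hv (hv l) hp) (tr₀ (v l) p (p ≫ v l) rfl _ (n l).val) =
      tr₀ (v m) p' (p' ≫ v m) rfl _ (n m).val := by
  have h := congrArg (tr₀ (pullback.snd (b l) (b m) ≫ v m) (pullback.lift p p' hp) (p' ≫ v m)
    (by rw [← Category.assoc, pullback.lift_snd]) (ob D (a m))) ((mem_Inv D hv).1 hn (l, m))
  rw [act_tr D _ _ (over_eq hv l m) (pullback.lift p p' hp) (p ≫ v l) (p' ≫ v m)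
      (by rw [← Category.assoc, pullback.lift_fst]) (by rw [← Category.assoc, pullback.lift_snd]),
    tr₀_tr₀, tr₀_tr₀, tr₀_congr (v l) (pullback.lift_fst _ _ _) (p ≫ v l),
    tr₀_congr (v m) (pullback.lift_snd _ _ _) (p' ≫ v m)] at h
  exact h

/-- The value at a point determined by an invariant family. -/
def SProp (n : ∀ l, Obj D b v l) {T : Scheme.{u}} {i : ι} (x : T ⟶ Xf i) (c : T ⟶ W) (h : x ≫ f i = c ≫ w)
    (σ : Γ((Scheme.Modules.pullback x).obj (ob D i), ⊤)) : Prop :=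
  ∀ (l : κ) {T' : Scheme.{u}} (p : T' ⟶ T) (p' : T' ⟶ V l) (hp : p ≫ c = p' ≫ b l),
    act D (p ≫ x) (p' ≫ v l) (point_over hv h hp) (tr₀ x p (p ≫ x) rfl _ σ) =
      tr₀ (v l) p' (p' ≫ v l) rfl _ (n l).val

theorem sprop_self {n : ∀ l, Obj D b v l} (hn : n ∈ Inv D hv) (l : κ) :
    SProp D hv n (v l) (b l) (hv l) (n l).val := fun _ _ p p' hp => inv_pair D hv hn p p' hp

variable {T : Scheme.{u}} {i j : ι}

theorem SProp.eq {n : ∀ l, Obj D b v l} {x : T ⟶ Xf i} {c : T ⟶ W} {h : x ≫ f i = c ≫ w}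
    {σ : Γ((Scheme.Modules.pullback x).obj (ob D i), ⊤)} (hσ : SProp D hv n x c h σ) (l : κ) {T' : Scheme.{u}}
    (p : T' ⟶ T) (p' : T' ⟶ V l) (hp : p ≫ c = p' ≫ b l) (k : T' ⟶ Xf i) (hk : p ≫ x = k) :
    QDesc.act D k (p' ≫ v l) (by rw [← hk]; exact point_over hv h hp) (tr₀ x p k hk _ σ) =
      tr₀ (v l) p' (p' ≫ v l) rfl _ (n l).val := by
  subst hk
  exact hσ l p p' hp

theorem SProp.comp {n : ∀ l, Obj D b v l} {x : T ⟶ Xf i} {c : T ⟶ W} {h : x ≫ f i = c ≫ w}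
    {σ : Γ((Scheme.Modules.pullback x).obj (ob D i), ⊤)} (hσ : SProp D hv n x c h σ) {T₁ : Scheme.{u}}
    (g : T₁ ⟶ T) (x' : T₁ ⟶ Xf i) (c' : T₁ ⟶ W) (hx : g ≫ x = x') (hc : g ≫ c = c') :
    SProp D hv n x' c' (by rw [← hx, ← hc, Category.assoc, Category.assoc, h]) (tr₀ x g x' hx _ σ) := by
  subst hx hc
  intro l T' p p' hp
  rw [tr₀_tr₀]
  exact hσ.eq D hv l (p ≫ g) p' (by rw [Category.assoc, hp]) (p ≫ g ≫ x) (Category.assoc _ _ _)

theorem SProp.act {n : ∀ l, Obj D b v l} {x : T ⟶ Xf i} {c : T ⟶ W} {h : x ≫ f i = c ≫ w}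
    {σ : Γ((Scheme.Modules.pullback x).obj (ob D i), ⊤)} (hσ : SProp D hv n x c h σ) (y : T ⟶ Xf j)
    (h' : y ≫ f j = c ≫ w) :
    SProp D hv n y c h' (QDesc.act D x y (h.trans h'.symm) σ) := by
  intro l T' p p' hp
  rw [act_tr D x y (h.trans h'.symm) p (p ≫ x) (p ≫ y) rfl rfl, act_act]
  exact hσ l p p' hp

/-- The transported values agree on overlaps. -/
theorem overlap_eq {n : ∀ l, Obj D b v l} (hn : n ∈ Inv D hv) (x : T ⟶ Xf i) (c : T ⟶ W) (h : x ≫ f i = c ≫ w)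
    {l m : κ} {P₁ P₂ Q : Scheme.{u}} (z₁ : P₁ ⟶ T) (s₁ : P₁ ⟶ V l) (h₁ : z₁ ≫ c = s₁ ≫ b l) (z₂ : P₂ ⟶ T)
    (s₂ : P₂ ⟶ V m) (h₂ : z₂ ≫ c = s₂ ≫ b m) (q₁ : Q ⟶ P₁) (q₂ : Q ⟶ P₂) (hq : q₁ ≫ z₁ = q₂ ≫ z₂)
    (hR : q₂ ≫ z₂ ≫ x = q₁ ≫ z₁ ≫ x) :
    tr₀ (z₁ ≫ x) q₁ (q₁ ≫ z₁ ≫ x) rfl _
        (QDesc.act D (s₁ ≫ v l) (z₁ ≫ x) (point_over hv h h₁).symm (tr₀ (v l) s₁ _ rfl _ (n l).val)) =
      tr₀ (z₂ ≫ x) q₂ (q₁ ≫ z₁ ≫ x) hR _
        (QDesc.act D (s₂ ≫ v m) (z₂ ≫ x) (point_over hv h h₂).symm (tr₀ (v m) s₂ _ rfl _ (n m).val)) := by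
  rw [act_tr D _ _ (point_over hv h h₁).symm q₁ ((q₁ ≫ s₁) ≫ v l) (q₁ ≫ z₁ ≫ x) (Category.assoc _ _ _).symm rfl,
    act_tr D _ _ (point_over hv h h₂).symm q₂ ((q₂ ≫ s₂) ≫ v m) (q₁ ≫ z₁ ≫ x) (Category.assoc _ _ _).symm hR,
    tr₀_tr₀, tr₀_tr₀,
    ← inv_pair D hv hn (q₁ ≫ s₁) (q₂ ≫ s₂)
      (by rw [Category.assoc, Category.assoc, ← h₁, ← h₂, ← Category.assoc, ← Category.assoc, hq]), act_act]

variable [IsAffine W] [Finite κ] [∀ l, IsAffine (V l)] [∀ l, Flat (b l)] [∀ i, Coh.IsQCoh (ob D i)]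

include hv in
/-- There is exactly one value at each affine point. -/
theorem existsUnique_sprop (hb : ∀ z : W, ∃ l y, b l y = z) {n : ∀ l, Obj D b v l} (hn : n ∈ Inv D hv)
    [IsAffine T] (x : T ⟶ Xf i) (c : T ⟶ W) (h : x ≫ f i = c ≫ w) : ∃! σ, SProp D hv n x c h σ := by
  have hp : ∀ l, (pullback.snd c (b l) ≫ v l) ≫ f (a l) = (pullback.fst c (b l) ≫ x) ≫ f i :=
    fun l => (point_over hv h pullback.condition).symm
  let t : ∀ l, Γ((Scheme.Modules.pullback (pullback.fst c (b l) ≫ x)).obj (ob D i), ⊤) := fun l =>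
    QDesc.act D (pullback.snd c (b l) ≫ v l) (pullback.fst c (b l) ≫ x) (hp l)
      (tr₀ (v l) (pullback.snd c (b l)) _ rfl _ (n l).val)
  have hc : ∀ z : T, ∃ l y, pullback.fst c (b l) y = z := fun z => by
    obtain ⟨l, y, hy⟩ := hb (c z)
    obtain ⟨q, hq, -⟩ := Scheme.Pullback.exists_preimage_pullback z y hy.symm
    exact ⟨l, q, hq⟩
  obtain ⟨σ, hσ, huniq⟩ := existsUnique_glue_over x (ob D i) (fun l => pullback.fst c (b l)) hc
    (fun l => pullback.fst c (b l) ≫ x) (fun _ => rfl) t (fun l m =>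
      overlap_eq D hv hn x c h (pullback.fst c (b l)) (pullback.snd c (b l)) pullback.condition
        (pullback.fst c (b m)) (pullback.snd c (b m)) pullback.condition _ _ pullback.condition _)
  refine ⟨σ, fun l T' p p' hpc => ?_, fun σ' hσ' => huniq σ' fun l => ?_⟩
  · have e : tr₀ x p (p ≫ x) rfl _ σ = QDesc.act D (p' ≫ v l) (p ≫ x) (point_over hv h hpc).symm
        (tr₀ (v l) p' (p' ≫ v l) rfl _ (n l).val) := by
      have := congrArg (tr₀ (pullback.fst c (b l) ≫ x) (pullback.lift p p' hpc) (p ≫ x)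
        (by rw [← Category.assoc, pullback.lift_fst]) (ob D i)) (hσ l)
      simp only [t] at this
      rw [act_tr D _ _ (hp l) (pullback.lift p p' hpc) (p' ≫ v l) (p ≫ x)
          (by rw [← Category.assoc, pullback.lift_snd]) (by rw [← Category.assoc, pullback.lift_fst]),
        tr₀_tr₀, tr₀_tr₀, tr₀_congr x (pullback.lift_fst _ _ _) (p ≫ x),
        tr₀_congr (v l) (pullback.lift_snd _ _ _) (p' ≫ v l)] at this
      exact this
    rw [e, act_act, act_self]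
  · simp only [t]
    rw [← hσ' l (pullback.fst c (b l)) (pullback.snd c (b l)) pullback.condition, act_act, act_self]

end Groth.Agent.Desc19b.QDesc
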